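import Groth.Agent.LocCoh.K170.DepthGen
import Groth.Agent.Ega4B.DepthFinite

/-!
# Depth and split finite extensions

`A → R` finite with an `A`-linear retraction, heights of primes of `R` at least those of their traces:
`(S_r)` and the Cohen–Macaulay property pass from `R` to `A` and to `R` as an `A`-module.
-/

set_option autoImplicit false
set_option linter.all false
universe u v w

open RingTheory.Sequence IsLocalRing Pointwise

namespace K672.SplitDepth

theorem isWeaklyRegular_retract {R : Type*} [CommRing R] (rs : List R) :
    ∀ {M N : Type v} [AddCommGroup M] [Module R M] [AddCommGroup N] [Module R N]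
      (i : M →ₗ[R] N) (r : N →ₗ[R] M), r ∘ₗ i = LinearMap.id →
      IsWeaklyRegular N rs → IsWeaklyRegular M rs := by
  induction rs with
  | nil => intro M N _ _ _ _ i r h _; exact IsWeaklyRegular.nil R M
  | cons a rs ih =>
    intro M N _ _ _ _ i r h hN
    rw [isWeaklyRegular_cons_iff] at hN ⊢
    have hinj : Function.Injective i := Function.LeftInverse.injective (LinearMap.congr_fun h)
    refine ⟨fun x y hxy => hinj (hN.1 ?_), ih (QuotSMulTop.map a i) (QuotSMulTop.map a r) ?_ hN.2⟩
    · change a • i x = a • i y
      rw [← map_smul, ← map_smul]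
      exact congrArg i hxy
    · rw [← QuotSMulTop.map_comp, h, QuotSMulTop.map_id]

theorem idealDepth_le_of_retract {R : Type u} [CommRing R] (I : Ideal R) {M N : Type v}
    [AddCommGroup M] [Module R M] [AddCommGroup N] [Module R N]
    (i : M →ₗ[R] N) (r : N →ₗ[R] M) (h : r ∘ₗ i = LinearMap.id) :
    LocCoh.idealDepth I N ≤ LocCoh.idealDepth I M := by
  classical
  by_cases hM : I • (⊤ : Submodule R M) = ⊤
  · rw [Groth.Agent.Ega4B.DepthBasic.idealDepth_eq_top hM]
    exact le_top
  · have hN : I • (⊤ : Submodule R N) ≠ ⊤ := by
      intro hN
      apply hM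
      have hr : LinearMap.range r = ⊤ := by
        rw [LinearMap.range_eq_top]
        exact Function.RightInverse.surjective (LinearMap.congr_fun h)
      rw [← hr, LinearMap.range_eq_map, ← Submodule.map_smul'', hN]
    rw [LocCoh.idealDepth, LocCoh.idealDepth, if_neg hM, if_neg hN]
    refine iSup₂_le fun rs hrs => ?_
    exact le_iSup₂_of_le rs ⟨isWeaklyRegular_retract rs i r h hrs.1, hrs.2⟩ le_rfl

section local_

variable {A : Type u} [CommRing A] (p : Ideal A) [p.IsPrime]

/-- dimension of the localization of a ring as a module -/
theorem supportDim_localizedModule_self :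
    Module.supportDim (Localization.AtPrime p) (LocalizedModule p.primeCompl A) = p.height := by
  rw [Module.supportDim_eq_of_equiv
    (LinearEquiv.extendScalarsOfIsLocalization p.primeCompl (Localization.AtPrime p)
    (IsLocalizedModule.linearEquiv p.primeCompl (LocalizedModule.mkLinearMap p.primeCompl A)
      (Algebra.linearMap A (Localization.AtPrime p)))),
    Module.supportDim_self_eq_ringKrullDim,
    IsLocalization.AtPrime.ringKrullDim_eq_height p (Localization.AtPrime p)]

theorem supportDim_le (M : Type*) [AddCommGroup M] [Module (Localization.AtPrime p) M] :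
    Module.supportDim (Localization.AtPrime p) M ≤ p.height := by
  rw [← IsLocalization.AtPrime.ringKrullDim_eq_height p (Localization.AtPrime p)]
  exact Module.supportDim_le_ringKrullDim _ _

variable {R : Type u} [CommRing R] [Algebra A R] (E : R →ₗ[A] A) (hE : ∀ a, E (algebraMap A R a) = a)

include hE in
theorem retract_comp : E ∘ₗ Algebra.linearMap A R = LinearMap.id :=
  LinearMap.ext fun a => hE a

include hE in
theorem depth_le :
    LocCoh.depth (Localization.AtPrime p) (LocalizedModule p.primeCompl R) ≤
      LocCoh.depth (Localization.AtPrime p) (LocalizedModule p.primeCompl A) := by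
  refine idealDepth_le_of_retract _ (LocalizedModule.map p.primeCompl (Algebra.linearMap A R))
    (LocalizedModule.map p.primeCompl E) ?_
  refine LinearMap.ext fun x => ?_
  induction x using LocalizedModule.induction_on with
  | h m s =>
    rw [LinearMap.comp_apply, LocalizedModule.map_mk, LocalizedModule.map_mk, LinearMap.id_apply]
    congr 1
    exact hE m

theorem natCast_le [IsNoetherianRing A] [Module.Finite A R] (n : ℕ)
    (h : ∀ (q : Ideal R) [q.IsPrime], q.comap (algebraMap A R) = p → (n : ℕ∞) ≤
      LocCoh.depth (Localization.AtPrime q) (LocalizedModule q.primeCompl R)) :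
    (n : ℕ∞) ≤ LocCoh.depth (Localization.AtPrime p) (LocalizedModule p.primeCompl R) := by
  have hRN : IsNoetherianRing R := IsNoetherianRing.of_finite A R
  exact (Groth.Agent.Ega4B.DepthFinite.natCast_le_depth_atPrime_iff (B := R) p n R).2 h

end local_

section main

variable {A R : Type u} [CommRing A] [CommRing R] [Algebra A R] [IsNoetherianRing A]
  [Module.Finite A R] (E : R →ₗ[A] A) (hE : ∀ a, E (algebraMap A R a) = a)
  (hht : ∀ (p : Ideal A) [p.IsPrime] (P : Ideal R) [P.IsPrime],
    P.comap (algebraMap A R) = p → p.height ≤ P.height)

include hE hht in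
theorem hasSk (r : ℕ) (hR : LocCoh.HasSk r R R) : LocCoh.HasSk r A R ∧ LocCoh.HasSk r A A := by
  have key : ∀ (p : Ideal A) [p.IsPrime], min (r : ℕ∞) p.height ≤
      LocCoh.depth (Localization.AtPrime p) (LocalizedModule p.primeCompl R) := by
    intro p hp
    obtain ⟨n, hn⟩ : ∃ n : ℕ, min (r : ℕ∞) p.height = n :=
      ENat.ne_top_iff_exists.1 (lt_of_le_of_lt (min_le_left _ _) (ENat.coe_lt_top r)).ne |>.imp
        fun _ h => h.symm
    rw [hn]
    refine natCast_le p n fun q hq hqp => ?_
    have h1 := hR q
    rw [supportDim_localizedModule_self] at h1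
    have h2 : min (r : ℕ∞) q.height ≤ LocCoh.depth (Localization.AtPrime q)
        (LocalizedModule q.primeCompl R) := by
      exact_mod_cast h1
    rw [← hn]
    exact (min_le_min_left _ (hht p q hqp)).trans h2
  refine ⟨fun p hp => ?_, fun p hp => ?_⟩
  · have h1 : min (r : WithBot ℕ∞) (Module.supportDim (Localization.AtPrime p)
        (LocalizedModule p.primeCompl R)) ≤ min (r : WithBot ℕ∞) p.height :=
      min_le_min_left _ (supportDim_le p _)
    refine h1.trans ?_
    exact_mod_cast key p
  · rw [supportDim_localizedModule_self]
    exact_mod_cast (key p).trans (depth_le p E hE)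

include hE hht in
theorem isCohenMacaulay (hR : LocCoh.IsCohenMacaulayRing R) :
    LocCoh.IsCohenMacaulayRing A ∧ ∀ (p : Ideal A) [p.IsPrime],
      LocCoh.IsCohenMacaulayModule (Localization.AtPrime p) (LocalizedModule p.primeCompl R) ∧
        Module.supportDim (Localization.AtPrime p) (LocalizedModule p.primeCompl R) =
          ringKrullDim (Localization.AtPrime p) := by
  have key : ∀ (p : Ideal A) [p.IsPrime], p.height ≤
      LocCoh.depth (Localization.AtPrime p) (LocalizedModule p.primeCompl R) := by
    intro p hp
    obtain ⟨n, hn⟩ : ∃ n : ℕ, p.height = n :=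
      ENat.ne_top_iff_exists.1 (Ideal.height_ne_top (I := p) hp.ne_top) |>.imp
        fun _ h => h.symm
    rw [hn]
    refine natCast_le p n fun q hq hqp => ?_
    have h1 := (hR.isCohenMacaulayLocalRing_localization q).supportDim_eq_depth
    rw [Module.supportDim_self_eq_ringKrullDim,
      IsLocalization.AtPrime.ringKrullDim_eq_height q (Localization.AtPrime q),
      ← K170.DepthGen.depth_localizedModule_self] at h1
    have h2 : q.height = LocCoh.depth (Localization.AtPrime q) (LocalizedModule q.primeCompl R) := by
      exact_mod_cast h1
    rw [← hn, ← h2]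
    exact hht p q hqp
  have hNL : ∀ (p : Ideal A) [p.IsPrime], IsNoetherianRing (Localization.AtPrime p) := fun p _ =>
    IsLocalization.isNoetherianRing p.primeCompl _ inferInstance
  have hd : ∀ (p : Ideal A) [p.IsPrime], Module.supportDim (Localization.AtPrime p)
      (LocalizedModule p.primeCompl R) = p.height ∧
      LocCoh.depth (Localization.AtPrime p) (LocalizedModule p.primeCompl R) = p.height := by
    intro p hp
    have := hNL p
    have hinj : Function.Injective (LocalizedModule.map p.primeCompl (Algebra.linearMap A R)) := by
      have h1 : (LocalizedModule.map p.primeCompl E) ∘ₗ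
          (LocalizedModule.map p.primeCompl (Algebra.linearMap A R)) = LinearMap.id := by
        refine LinearMap.ext fun x => ?_
        induction x using LocalizedModule.induction_on with
        | h m s =>
          rw [LinearMap.comp_apply, LocalizedModule.map_mk, LocalizedModule.map_mk,
            LinearMap.id_apply]
          congr 1
          exact hE m
      exact Function.LeftInverse.injective (g := LocalizedModule.map p.primeCompl E)
        (fun x => LinearMap.congr_fun h1 x)
    have hnt : Nontrivial (LocalizedModule p.primeCompl A) :=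
      (LinearEquiv.extendScalarsOfIsLocalization p.primeCompl (Localization.AtPrime p)
        (IsLocalizedModule.linearEquiv p.primeCompl (LocalizedModule.mkLinearMap p.primeCompl A)
          (Algebra.linearMap A (Localization.AtPrime p)))).toEquiv.nontrivial
    have hnt' : Nontrivial (LocalizedModule p.primeCompl R) := hinj.nontrivial
    have h2 := Groth.Agent.Localalg.Depth2.depth_le_supportDim (R := Localization.AtPrime p)
      (LocalizedModule p.primeCompl R)
    have h3 := supportDim_le p (LocalizedModule p.primeCompl R)
    have h4 : ((p.height : ℕ∞) : WithBot ℕ∞) ≤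
      ((LocCoh.depth (Localization.AtPrime p) (LocalizedModule p.primeCompl R) : ℕ∞) :
        WithBot ℕ∞) := by exact_mod_cast key p
    have h5 := le_antisymm (h2.trans h3) h4
    exact ⟨le_antisymm h3 (h4.trans h2), by exact_mod_cast h5⟩
  refine ⟨⟨fun p hp => ?_⟩, fun p hp => ⟨?_, ?_⟩⟩
  · have := hNL p
    refine ⟨?_⟩
    have h1 := (key p).trans (depth_le p E hE)
    rw [K170.DepthGen.depth_localizedModule_self] at h1
    rw [Module.supportDim_self_eq_ringKrullDim,
      IsLocalization.AtPrime.ringKrullDim_eq_height p (Localization.AtPrime p)]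
    exact congrArg _ (le_antisymm h1 (K170.DepthGen.depth_localization_le_height p))
  · rw [LocCoh.IsCohenMacaulayModule, (hd p).1, (hd p).2]
  · rw [(hd p).1, IsLocalization.AtPrime.ringKrullDim_eq_height p (Localization.AtPrime p)]

end main

end K672.SplitDepth
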