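import Groth.Agent.InvTh.K672.CoactPrimes
import Groth.Agent.InvTh.K672.SplitDepth
import Groth.Agent.GIT.K688.Reynolds

/-!
# Invariants of a linearly reductive finite group scheme: depth

The package: `A → R` is finite, split by an `A`-linear retraction, `A` is Noetherian and the heights
of primes of `R` are at least those of their traces on `A`.
-/

set_option autoImplicit false
set_option linter.all false
universe u

open TensorProduct HopfRep

namespace K672.ComodSplit

variable {k : Type u} [Field k] {H : Type u} [CommRing H] [HopfAlgebra k H]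
  {R : Type u} [CommRing R] [Algebra k R] [HopfRep.Comod k H R]
  (hmul : ∀ x y : R, HopfRep.Comod.coact (k := k) (A := H) (x * y) =
        HopfRep.Comod.coact (k := k) (A := H) x * HopfRep.Comod.coact (k := k) (A := H) y)
  (hone : HopfRep.Comod.coact (k := k) (A := H) (1 : R) = 1)
  (A : Subalgebra k R)
  (hA : ∀ a : R, a ∈ A ↔ HopfRep.Comod.coact (k := k) (A := H) a = a ⊗ₜ[k] (1 : H))

include hmul hA in
/-- The Reynolds operator. -/
theorem exists_retraction (hG : HopfRep.IsLinearlyReductive k H) :
    ∃ E : R →ₗ[A] A, ∀ a, E (algebraMap A R a) = a := by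
  obtain ⟨E, ⟨h₁, h₂, h₃⟩, -⟩ := K688.Reynolds.existsUnique_reynolds (k := k) (A := H) (V := R) hG
  have hfix : ∀ x : R, x ∈ fixedPts k H R ↔ x ∈ A := fun x => (hA x).symm
  have hlin : ∀ (a : A) (x : R), E ((a : R) * x) = (a : R) * E x := by
    intro a x
    have hf : Groth.Agent.Books.ComodHom.IsComodHom k H (LinearMap.mulLeft k (a : R)) := by
      intro v
      rw [LinearMap.mulLeft_apply, hmul, (hA _).1 a.2]
      generalize (HopfRep.Comod.coact (k := k) (A := H) v) = w
      induction w with
      | zero => simp
      | tmul r h => simp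
      | add x y hx hy => rw [mul_add, hx, hy, map_add]
    exact K688.Reynolds.reynolds_comm hG h₁ h₂ h₃ h₁ h₂ h₃ hf x
  refine ⟨{ toFun := fun x => ⟨E x, (hfix _).1 (K688.Reynolds.apply_mem h₂ h₃ x)⟩
            map_add' := fun x y => Subtype.ext (map_add E x y)
            map_smul' := fun a x => Subtype.ext ?_ }, fun a => Subtype.ext ?_⟩
  · exact hlin a x
  · exact (h₃ _).2 ((hfix _).2 a.2)

/-- the coaction as an algebra map -/
noncomputable def rho : R →ₐ[k] R ⊗[k] H :=
  AlgHom.ofLinearMap (HopfRep.Comod.coact (k := k) (A := H)) hone hmul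

variable [Module.Finite k H] [Algebra.FiniteType k R]

include hmul hone hA in
theorem isNoetherianRing : IsNoetherianRing A :=
  CoactPrimes.isNoetherianRing (rho hmul hone) HopfRep.Comod.coassoc HopfRep.Comod.counit_comp A hA

include hmul hone hA in
theorem finite : Module.Finite A R :=
  CoactPrimes.finite (rho hmul hone) HopfRep.Comod.coassoc HopfRep.Comod.counit_comp A hA

include hmul hone hA in
theorem height_le (p : Ideal A) [p.IsPrime] (P : Ideal R) [P.IsPrime]
    (h : P.comap (algebraMap A R) = p) : p.height ≤ P.height :=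
  CoactPrimes.height_le (rho hmul hone) HopfRep.Comod.coassoc HopfRep.Comod.counit_comp A hA p P h

end K672.ComodSplit
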