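import Groth.Prelude.Def_HopfRep
import Mathlib.RingTheory.HopfAlgebra.Convolution
import Mathlib.RingTheory.TensorProduct.Maps
import Mathlib.RingTheory.Flat.Basic
import Mathlib.Tactic

/-!
# The automorphism of `S ⊗ H` attached to an `H`-comodule algebra `S`

`ρ : S →ₐ[k] S ⊗ H` is a coaction by a commutative Hopf algebra.

* `Phi ρ`: the algebra map `s ⊗ h ↦ ρ s (1 ⊗ h)`; `Psi ρ` is its inverse (`PhiEquiv`).
* `nonZeroDivisors_coact`: the coaction preserves non-zero-divisors (`H` flat over `k`).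
-/

set_option autoImplicit false

open TensorProduct

namespace K672.Coact

variable {k H S : Type*} [CommRing k] [CommRing H] [HopfAlgebra k H] [CommRing S] [Algebra k S]

/-- `s ⊗ h ↦ ρ s (1 ⊗ h)`. -/
noncomputable def Phi (ρ : S →ₐ[k] S ⊗[k] H) : S ⊗[k] H →ₐ[k] S ⊗[k] H :=
  Algebra.TensorProduct.lift ρ Algebra.TensorProduct.includeRight (fun _ _ => Commute.all _ _)

/-- `s ⊗ h ↦ (id ⊗ antipode) (ρ s) (1 ⊗ h)`. -/
noncomputable def Psi (ρ : S →ₐ[k] S ⊗[k] H) : S ⊗[k] H →ₐ[k] S ⊗[k] H :=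
  Algebra.TensorProduct.lift
    ((Algebra.TensorProduct.map (AlgHom.id k S) (HopfAlgebra.antipodeAlgHom k H)).comp ρ)
    Algebra.TensorProduct.includeRight (fun _ _ => Commute.all _ _)

theorem Phi_tmul (ρ : S →ₐ[k] S ⊗[k] H) (s : S) (h : H) :
    Phi ρ (s ⊗ₜ h) = ρ s * (1 ⊗ₜ h) := rfl

theorem Psi_tmul (ρ : S →ₐ[k] S ⊗[k] H) (s : S) (h : H) :
    Psi ρ (s ⊗ₜ h) = Algebra.TensorProduct.map (AlgHom.id k S) (HopfAlgebra.antipodeAlgHom k H) (ρ s) *
      (1 ⊗ₜ h) := rfl

theorem Phi_tmul_one (ρ : S →ₐ[k] S ⊗[k] H) (s : S) : Phi ρ (s ⊗ₜ 1) = ρ s := by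
  rw [Phi_tmul, ← Algebra.TensorProduct.one_def, mul_one]

section

variable (ρ : S →ₐ[k] S ⊗[k] H)
  (hassoc : (TensorProduct.assoc k S H H).toLinearMap ∘ₗ ρ.toLinearMap.rTensor H ∘ₗ ρ.toLinearMap =
    (CoalgebraStruct.comul (R := k) (A := H)).lTensor S ∘ₗ ρ.toLinearMap)
  (hcounit : (CoalgebraStruct.counit (R := k) (A := H)).lTensor S ∘ₗ ρ.toLinearMap =
    (TensorProduct.mk k S k).flip 1)

theorem Psi_eq (t : S ⊗[k] H) : Psi ρ t =
    (LinearMap.mul' k H ∘ₗ (HopfAlgebra.antipode k).rTensor H).lTensor S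
      (TensorProduct.assoc k S H H (ρ.toLinearMap.rTensor H t)) := by
  induction t with
  | zero => simp
  | tmul s h =>
    rw [Psi_tmul, LinearMap.rTensor_tmul]
    change _ = (LinearMap.mul' k H ∘ₗ (HopfAlgebra.antipode k).rTensor H).lTensor S
      (TensorProduct.assoc k S H H (ρ s ⊗ₜ[k] h))
    generalize ρ s = u
    induction u with
    | zero => simp
    | tmul s' h' =>
      simp [HopfAlgebra.antipodeAlgHom]
    | add u v hu hv =>
      rw [map_add, add_mul, hu, hv, TensorProduct.add_tmul, map_add, map_add]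
  | add x y hx hy => rw [map_add, hx, hy, map_add, map_add, map_add]

theorem PhiS_eq (t : S ⊗[k] H) :
    Phi ρ (Algebra.TensorProduct.map (AlgHom.id k S) (HopfAlgebra.antipodeAlgHom k H) t) =
    (LinearMap.mul' k H ∘ₗ (HopfAlgebra.antipode k).lTensor H).lTensor S
      (TensorProduct.assoc k S H H (ρ.toLinearMap.rTensor H t)) := by
  induction t with
  | zero => simp
  | tmul s h =>
    rw [Algebra.TensorProduct.map_tmul, Phi_tmul, LinearMap.rTensor_tmul]
    change ρ s * _ = (LinearMap.mul' k H ∘ₗ (HopfAlgebra.antipode k).lTensor H).lTensor S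
      (TensorProduct.assoc k S H H (ρ s ⊗ₜ[k] h))
    generalize ρ s = u
    induction u with
    | zero => simp
    | tmul s' h' =>
      simp [HopfAlgebra.antipodeAlgHom]
    | add u v hu hv =>
      rw [add_mul, hu, hv, TensorProduct.add_tmul, map_add, map_add]
  | add x y hx hy => rw [map_add, map_add, hx, hy, map_add, map_add, map_add]

include hassoc hcounit in
theorem Psi_coact (s : S) : Psi ρ (ρ s) = s ⊗ₜ 1 := by
  rw [Psi_eq]
  have h1 := LinearMap.congr_fun hassoc s
  change TensorProduct.assoc k S H H (ρ.toLinearMap.rTensor H (ρ s)) =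
    (CoalgebraStruct.comul (R := k) (A := H)).lTensor S (ρ s) at h1
  rw [h1, ← LinearMap.comp_apply, ← LinearMap.lTensor_comp, LinearMap.comp_assoc,
    HopfAlgebra.mul_antipode_rTensor_comul, LinearMap.lTensor_comp, LinearMap.comp_apply]
  have h2 := LinearMap.congr_fun hcounit s
  change (CoalgebraStruct.counit (R := k) (A := H)).lTensor S (ρ s) = s ⊗ₜ[k] (1 : k) at h2
  rw [h2]
  simp

include hassoc hcounit in
theorem PhiS_coact (s : S) :
    Phi ρ (Algebra.TensorProduct.map (AlgHom.id k S) (HopfAlgebra.antipodeAlgHom k H) (ρ s)) =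
      s ⊗ₜ 1 := by
  rw [PhiS_eq]
  have h1 := LinearMap.congr_fun hassoc s
  change TensorProduct.assoc k S H H (ρ.toLinearMap.rTensor H (ρ s)) =
    (CoalgebraStruct.comul (R := k) (A := H)).lTensor S (ρ s) at h1
  rw [h1, ← LinearMap.comp_apply, ← LinearMap.lTensor_comp, LinearMap.comp_assoc,
    HopfAlgebra.mul_antipode_lTensor_comul, LinearMap.lTensor_comp, LinearMap.comp_apply]
  have h2 := LinearMap.congr_fun hcounit s
  change (CoalgebraStruct.counit (R := k) (A := H)).lTensor S (ρ s) = s ⊗ₜ[k] (1 : k) at h2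
  rw [h2]
  simp

include hassoc hcounit in
theorem Psi_Phi (t : S ⊗[k] H) : Psi ρ (Phi ρ t) = t := by
  induction t with
  | zero => simp
  | tmul s h =>
    rw [Phi_tmul, map_mul, Psi_coact ρ hassoc hcounit]
    have : Psi ρ ((1 : S) ⊗ₜ[k] h) = 1 ⊗ₜ h := by
      rw [Psi_tmul, map_one, map_one, one_mul]
    rw [this]
    simp
  | add x y hx hy => rw [map_add, map_add, hx, hy]

include hassoc hcounit in
theorem Phi_Psi (t : S ⊗[k] H) : Phi ρ (Psi ρ t) = t := by
  induction t with
  | zero => simp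
  | tmul s h =>
    rw [Psi_tmul, map_mul, PhiS_coact ρ hassoc hcounit]
    have : Phi ρ ((1 : S) ⊗ₜ[k] h) = 1 ⊗ₜ h := by
      rw [Phi_tmul, map_one, one_mul]
    rw [this]
    simp
  | add x y hx hy => rw [map_add, map_add, hx, hy]

include hcounit in
/-- The coaction is injective. -/
theorem coact_injective : Function.Injective ρ := by
  intro s t hst
  have h2 := LinearMap.congr_fun hcounit s
  have h3 := LinearMap.congr_fun hcounit t
  change (CoalgebraStruct.counit (R := k) (A := H)).lTensor S (ρ s) = s ⊗ₜ[k] (1 : k) at h2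
  change (CoalgebraStruct.counit (R := k) (A := H)).lTensor S (ρ t) = t ⊗ₜ[k] (1 : k) at h3
  rw [hst, h3] at h2
  have := congrArg (TensorProduct.rid k S) h2
  simpa using this.symm

omit [HopfAlgebra k H] in
/-- `s ↦ s ⊗ 1` preserves non-zero-divisors when `H` is flat. -/
theorem tmul_one_mem_nonZeroDivisors [Algebra k H] [Module.Flat k H] {s : S} (hs : s ∈ nonZeroDivisors S) :
    (s ⊗ₜ[k] (1 : H)) ∈ nonZeroDivisors (S ⊗[k] H) := by
  rw [mem_nonZeroDivisors_iff_right]
  intro z hz
  have hinj : Function.Injective (LinearMap.mulLeft k s) := by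
    intro a b hab
    have h1 : s * a = s * b := hab
    have h2 : (a - b) * s = 0 := by rw [sub_mul, mul_comm a, mul_comm b, h1, sub_self]
    exact sub_eq_zero.1 (mem_nonZeroDivisors_iff_right.1 hs _ h2)
  have hinj' : Function.Injective ((LinearMap.mulLeft k s).rTensor H) :=
    Module.Flat.rTensor_preserves_injective_linearMap _ hinj
  have key : ∀ y : S ⊗[k] H, (LinearMap.mulLeft k s).rTensor H y = y * (s ⊗ₜ[k] (1 : H)) := by
    intro y
    induction y with
    | zero => simp
    | tmul a b => simp [mul_comm]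
    | add x y hx hy => rw [map_add, add_mul, hx, hy]
  apply hinj'
  rw [key, hz, map_zero]

include hassoc hcounit in
/-- The coaction preserves non-zero-divisors when `H` is flat. -/
theorem coact_mem_nonZeroDivisors [Module.Flat k H] {s : S} (hs : s ∈ nonZeroDivisors S) :
    ρ s ∈ nonZeroDivisors (S ⊗[k] H) := by
  rw [mem_nonZeroDivisors_iff_right]
  intro z hz
  have h1 : Psi ρ z * (s ⊗ₜ[k] (1 : H)) = 0 := by
    rw [← Psi_coact ρ hassoc hcounit s, ← map_mul, hz, map_zero]
  have h2 := mem_nonZeroDivisors_iff_right.1 (tmul_one_mem_nonZeroDivisors (k := k) (H := H) hs) _ h1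
  rw [← Phi_Psi ρ hassoc hcounit z, h2, map_zero]

end

end K672.Coact
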