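import Groth.Agent.InvTh.K672.Coact
import Mathlib.LinearAlgebra.Charpoly.ToMatrix
import Mathlib.LinearAlgebra.Charpoly.BaseChange
import Mathlib.RingTheory.TensorProduct.Free
import Mathlib.RingTheory.Norm.Defs
import Mathlib.RingTheory.Bialgebra.TensorProduct

/-!
# Characteristic polynomials along a coaction of a finite-dimensional Hopf algebra

`cp H z` is the characteristic polynomial over `S` of multiplication by `z : S ⊗ H`.  For a coaction
`ρ : R → R ⊗ H` the coefficients of `cp H (ρ x)` are invariant (`cp_invariant`) and `x` is a root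
(`eval_cp_self`).
-/

set_option autoImplicit false
set_option linter.all false

open TensorProduct Polynomial

namespace K672.CoactNorm

section cp

variable {k H S S' : Type*} [Field k] [CommRing H] [Algebra k H] [Module.Finite k H]
  [CommRing S] [Algebra k S] [CommRing S'] [Algebra k S']

/-- characteristic polynomial of multiplication by `z` over `S` -/
noncomputable def cp (z : S ⊗[k] H) : S[X] := (LinearMap.mulLeft S z).charpoly

lemma repr_map {ι : Type*} (b : Module.Basis ι k H) (f : S →ₐ[k] S') (w : S ⊗[k] H) (i : ι) :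
    (Algebra.TensorProduct.basis S' b).repr (Algebra.TensorProduct.map f (AlgHom.id k H) w) i =
      f ((Algebra.TensorProduct.basis S b).repr w i) := by
  induction w with
  | zero => simp
  | tmul s h =>
    rw [Algebra.TensorProduct.map_tmul, Algebra.TensorProduct.basis_repr_tmul,
      Algebra.TensorProduct.basis_repr_tmul]
    simp
  | add x y hx hy => simp only [map_add, Finsupp.add_apply, hx, hy]

lemma cp_map (f : S →ₐ[k] S') (z : S ⊗[k] H) :
    cp (Algebra.TensorProduct.map f (AlgHom.id k H) z) = (cp z).map (f : S →+* S') := by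
  classical
  let b := Module.finBasis k H
  rw [cp, cp, ← LinearMap.charpoly_toMatrix _ (Algebra.TensorProduct.basis S' b),
    ← LinearMap.charpoly_toMatrix _ (Algebra.TensorProduct.basis S b), ← Matrix.charpoly_map]
  congr 1
  ext i j
  rw [LinearMap.toMatrix_apply, Matrix.map_apply, LinearMap.toMatrix_apply,
    LinearMap.mulLeft_apply, LinearMap.mulLeft_apply, Algebra.TensorProduct.basis_apply,
    Algebra.TensorProduct.basis_apply]
  have h1 : Algebra.TensorProduct.map f (AlgHom.id k H) z * (1 : S') ⊗ₜ[k] b j =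
      Algebra.TensorProduct.map f (AlgHom.id k H) (z * (1 : S) ⊗ₜ[k] b j) := by
    rw [map_mul, Algebra.TensorProduct.map_tmul, map_one, AlgHom.id_apply]
  rw [h1, repr_map]
  rfl

lemma cp_equiv (e : S ⊗[k] H ≃ₐ[S] S ⊗[k] H) (z : S ⊗[k] H) : cp (e z) = cp z := by
  rw [cp, cp, ← LinearEquiv.charpoly_conj e.toLinearEquiv (LinearMap.mulLeft S z)]
  congr 1
  ext w
  simp [LinearEquiv.conj_apply]

lemma cp_monic (z : S ⊗[k] H) : (cp z).Monic := LinearMap.charpoly_monic _

lemma eval_cp (z : S ⊗[k] H) :
    (cp z).eval₂ (Algebra.TensorProduct.includeLeftRingHom : S →+* S ⊗[k] H) z = 0 := by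
  have h := LinearMap.aeval_self_charpoly (LinearMap.mulLeft S z)
  have h2 : Polynomial.aeval (Algebra.lmul S (S ⊗[k] H) z) (cp z) = 0 := h
  rw [Polynomial.aeval_algHom_apply] at h2
  have h3 := LinearMap.congr_fun h2 1
  simp only [Algebra.coe_lmul_eq_mul, LinearMap.mul_apply', mul_one, LinearMap.zero_apply] at h3
  exact h3

lemma cp_coeff_zero (z : S ⊗[k] H) [Nontrivial S] :
    (cp z).coeff 0 = (-1) ^ (Module.finrank k H) * LinearMap.det (LinearMap.mulLeft S z) := by
  have : Module.finrank S (S ⊗[k] H) = Module.finrank k H := Module.finrank_baseChange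
  rw [LinearMap.det_eq_sign_charpoly_coeff, this, ← mul_assoc, ← mul_pow, cp]
  simp

lemma cp_coeff_zero_ne_zero {κ : Type*} [Field κ] [Algebra k κ] (z : κ ⊗[k] H) (hz : IsUnit z) :
    (cp z).coeff 0 ≠ 0 := by
  rw [cp_coeff_zero]
  refine mul_ne_zero (pow_ne_zero _ (by simp)) ?_
  have h1 : IsUnit (LinearMap.mulLeft κ z) := by
    have : LinearMap.mulLeft κ z = Algebra.lmul κ (κ ⊗[k] H) z := rfl
    rw [this]
    exact hz.map _
  exact (h1.map LinearMap.det).ne_zero

end cp

section tr

variable {k H S : Type*} [CommRing k] [CommRing H] [HopfAlgebra k H] [CommRing S] [Algebra k S]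

/-- `s ⊗ h ↦ s g(h₁) ⊗ h₂` -/
noncomputable def tr (g : H →ₐ[k] S) : S ⊗[k] H →ₐ[S] S ⊗[k] H :=
  Algebra.TensorProduct.lift (Algebra.ofId S (S ⊗[k] H))
    ((Algebra.TensorProduct.map g (AlgHom.id k H)).comp (Bialgebra.comulAlgHom k H))
    (fun _ _ => Commute.all _ _)

lemma tr_tmul (g : H →ₐ[k] S) (s : S) (h : H) :
    tr g (s ⊗ₜ h) = (s ⊗ₜ 1) * Algebra.TensorProduct.map g (AlgHom.id k H) (Coalgebra.comul h) := rfl

lemma tr_tr (g g' : H →ₐ[k] S)
    (hgg : ∀ h, LinearMap.mul' k S (TensorProduct.map g'.toLinearMap g.toLinearMap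
      (Coalgebra.comul h)) = algebraMap k S (Coalgebra.counit h)) (z : S ⊗[k] H) :
    tr g (tr g' z) = z := by
  have key : ∀ h : H, tr g (tr g' (1 ⊗ₜ h)) = 1 ⊗ₜ h := by
    intro h
    rw [tr_tmul, ← Algebra.TensorProduct.one_def, one_mul]
    -- `tr g ∘ (g' ⊗ id)` as a linear map on `H ⊗ H`
    have h1 : ∀ w : H ⊗[k] H, tr g (Algebra.TensorProduct.map g' (AlgHom.id k H) w) =
        (LinearMap.mul' k S ∘ₗ TensorProduct.map g'.toLinearMap g.toLinearMap).rTensor H
          ((TensorProduct.assoc k H H H).symm ((Coalgebra.comul (R := k) (A := H)).lTensor H w)) := by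
      intro w
      induction w with
      | zero => simp
      | tmul a b =>
        rw [Algebra.TensorProduct.map_tmul, tr_tmul, LinearMap.lTensor_tmul]
        simp only [AlgHom.id_apply]
        generalize (Coalgebra.comul (R := k) b) = v
        induction v with
        | zero => simp
        | tmul c d => simp
        | add x y hx hy => rw [map_add, mul_add, hx, hy, TensorProduct.tmul_add, map_add, map_add]
      | add x y hx hy => rw [map_add, map_add, hx, hy, map_add, map_add, map_add]
    rw [h1]
    have h2 : (TensorProduct.assoc k H H H).symm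
        ((Coalgebra.comul (R := k) (A := H)).lTensor H (Coalgebra.comul h)) =
        (Coalgebra.comul (R := k) (A := H)).rTensor H (Coalgebra.comul h) := by
      rw [LinearEquiv.symm_apply_eq]
      exact (Coalgebra.coassoc_apply h).symm
    rw [h2, ← LinearMap.comp_apply, ← LinearMap.rTensor_comp]
    have h3 : (LinearMap.mul' k S ∘ₗ TensorProduct.map g'.toLinearMap g.toLinearMap) ∘ₗ
        Coalgebra.comul (R := k) (A := H) = Algebra.linearMap k S ∘ₗ Coalgebra.counit := by
      ext a
      exact hgg a
    rw [h3, LinearMap.rTensor_comp, LinearMap.comp_apply, Coalgebra.rTensor_counit_comul]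
    simp
  have h4 : (tr g).comp (tr g') = AlgHom.id S _ := by
    apply Algebra.TensorProduct.ext
    · ext
    · ext h
      exact key h
  exact congr($h4 z)

/-- `tr g` is an automorphism. -/
noncomputable def trEquiv (g : H →ₐ[k] S) : S ⊗[k] H ≃ₐ[S] S ⊗[k] H :=
  AlgEquiv.ofAlgHom (tr g) (tr (g.comp (HopfAlgebra.antipodeAlgHom k H)))
    (AlgHom.ext fun z => tr_tr _ _ (fun h => by
      have h1 := LinearMap.congr_fun (HopfAlgebra.mul_antipode_rTensor_comul (R := k) (A := H)) h
      have h2 := congrArg g h1
      have h3 : ∀ w : H ⊗[k] H, LinearMap.mul' k S (TensorProduct.map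
          (g.comp (HopfAlgebra.antipodeAlgHom k H)).toLinearMap g.toLinearMap w) =
          g (LinearMap.mul' k H ((HopfAlgebra.antipode k).rTensor H w)) := by
        intro w
        induction w with
        | zero => simp
        | tmul a b => simp [HopfAlgebra.antipodeAlgHom]
        | add x y hx hy => simp only [map_add, hx, hy]
      rw [h3]
      refine h2.trans ?_
      simp) z)
    (AlgHom.ext fun z => tr_tr _ _ (fun h => by
      have h1 := LinearMap.congr_fun (HopfAlgebra.mul_antipode_lTensor_comul (R := k) (A := H)) h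
      have h2 := congrArg g h1
      have h3 : ∀ w : H ⊗[k] H, LinearMap.mul' k S (TensorProduct.map
          g.toLinearMap (g.comp (HopfAlgebra.antipodeAlgHom k H)).toLinearMap w) =
          g (LinearMap.mul' k H ((HopfAlgebra.antipode k).lTensor H w)) := by
        intro w
        induction w with
        | zero => simp
        | tmul a b => simp [HopfAlgebra.antipodeAlgHom]
        | add x y hx hy => simp only [map_add, hx, hy]
      rw [h3]
      refine h2.trans ?_
      simp) z)

lemma trEquiv_apply (g : H →ₐ[k] S) (z : S ⊗[k] H) : trEquiv g z = tr g z := rfl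

end tr

section coact

variable {k H R : Type*} [Field k] [CommRing H] [HopfAlgebra k H] [Module.Finite k H]
  [CommRing R] [Algebra k R] (ρ : R →ₐ[k] R ⊗[k] H)
  (hassoc : (TensorProduct.assoc k R H H).toLinearMap ∘ₗ ρ.toLinearMap.rTensor H ∘ₗ ρ.toLinearMap =
    (CoalgebraStruct.comul (R := k) (A := H)).lTensor R ∘ₗ ρ.toLinearMap)
  (hcounit : (CoalgebraStruct.counit (R := k) (A := H)).lTensor R ∘ₗ ρ.toLinearMap =
    (TensorProduct.mk k R k).flip 1)

include hassoc in
lemma map_coact (x : R) : Algebra.TensorProduct.map ρ (AlgHom.id k H) (ρ x) =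
    tr (Algebra.TensorProduct.includeRight : H →ₐ[k] R ⊗[k] H)
      (Algebra.TensorProduct.map (Algebra.TensorProduct.includeLeft : R →ₐ[k] R ⊗[k] H)
        (AlgHom.id k H) (ρ x)) := by
  have h1 := LinearMap.congr_fun hassoc x
  have h2 : ∀ w : R ⊗[k] H, tr (Algebra.TensorProduct.includeRight : H →ₐ[k] R ⊗[k] H)
      (Algebra.TensorProduct.map (Algebra.TensorProduct.includeLeft : R →ₐ[k] R ⊗[k] H)
        (AlgHom.id k H) w) = (TensorProduct.assoc k R H H).symm
        ((CoalgebraStruct.comul (R := k) (A := H)).lTensor R w) := by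
    intro w
    induction w with
    | zero => simp
    | tmul a b =>
      rw [Algebra.TensorProduct.map_tmul, tr_tmul, LinearMap.lTensor_tmul]
      simp only [AlgHom.id_apply]
      generalize (CoalgebraStruct.comul (R := k) b) = v
      induction v with
      | zero => simp
      | tmul c d => simp
      | add x y hx hy => rw [map_add, mul_add, hx, hy, TensorProduct.tmul_add, map_add]
    | add x y hx hy => rw [map_add, map_add, hx, hy, map_add, map_add]
  rw [h2, LinearEquiv.eq_symm_apply]
  exact h1

include hassoc in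
/-- the coefficients of the characteristic polynomial are invariant -/
theorem cp_invariant (x : R) :
    (cp (ρ x)).map (ρ : R →+* R ⊗[k] H) =
      (cp (ρ x)).map (Algebra.TensorProduct.includeLeft : R →ₐ[k] R ⊗[k] H).toRingHom := by
  have h1 := cp_map ρ (ρ x)
  have h2 := cp_map (Algebra.TensorProduct.includeLeft : R →ₐ[k] R ⊗[k] H) (ρ x)
  rw [map_coact ρ hassoc, ← trEquiv_apply, cp_equiv] at h1
  rw [← h1, h2]
  rfl

include hassoc in
theorem coact_coeff (x : R) (i : ℕ) : ρ ((cp (ρ x)).coeff i) = (cp (ρ x)).coeff i ⊗ₜ 1 := by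
  have := congrArg (fun p => p.coeff i) (cp_invariant ρ hassoc x)
  rw [coeff_map, coeff_map] at this
  exact this

include hassoc hcounit in
/-- `x` is a root of the characteristic polynomial of `ρ x`. -/
theorem eval_cp_self (x : R) : (cp (ρ x)).eval x = 0 := by
  apply Coact.coact_injective ρ hcounit
  have h1 := eval_cp (ρ x)
  have h2 : ((cp (ρ x)).map (ρ : R →+* R ⊗[k] H)).eval (ρ x) = 0 := by
    rw [cp_invariant ρ hassoc, eval_map]
    exact h1
  rw [eval_map, ← AlgHom.coe_toRingHom ρ, eval₂_hom] at h2
  rw [map_zero]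
  exact h2

end coact

end K672.CoactNorm
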