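import Groth.Agent.InvTh.K672.CoactNorm
import Mathlib.RingTheory.Ideal.GoingUp
import Mathlib.RingTheory.Ideal.GoingDown
import Mathlib.RingTheory.Ideal.KrullsHeightTheorem
import Mathlib.RingTheory.LocalRing.ResidueField.Ideal
import Mathlib.RingTheory.QuasiFinite.Basic
import Mathlib.RingTheory.Adjoin.Tower
import Mathlib.RingTheory.FiniteType

/-!
# Primes of the invariants of a coaction of a finite-dimensional Hopf algebra

`ρ : R → R ⊗ H` a coaction, `A ⊆ R` the invariants.

* `isIntegral`: `R` is integral over `A`.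
* `exists_prime`: two primes of `R` with the same trace on `A` are joined by a prime of `R ⊗ H`.
* `hasGoingDown`: going down for `A → R`.
* `finite`, `isNoetherianRing`: if `R` is of finite type over `k`.
-/

set_option autoImplicit false
set_option linter.all false

open TensorProduct Polynomial

namespace K672.CoactPrimes

variable {k H R : Type*} [Field k] [CommRing H] [HopfAlgebra k H] [Module.Finite k H]
  [CommRing R] [Algebra k R] (ρ : R →ₐ[k] R ⊗[k] H)
  (hassoc : (TensorProduct.assoc k R H H).toLinearMap ∘ₗ ρ.toLinearMap.rTensor H ∘ₗ ρ.toLinearMap =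
    (CoalgebraStruct.comul (R := k) (A := H)).lTensor R ∘ₗ ρ.toLinearMap)
  (hcounit : (CoalgebraStruct.counit (R := k) (A := H)).lTensor R ∘ₗ ρ.toLinearMap =
    (TensorProduct.mk k R k).flip 1)
  (A : Subalgebra k R) (hA : ∀ a : R, a ∈ A ↔ ρ a = a ⊗ₜ[k] (1 : H))

include hassoc hcounit hA in
theorem isIntegral : Algebra.IsIntegral A R := by
  refine ⟨fun x => ?_⟩
  have h1 : ((CoactNorm.cp (ρ x)).coeffs : Set R) ⊆ A := by
    intro c hc
    obtain ⟨i, -, rfl⟩ := Polynomial.mem_coeffs_iff.1 hc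
    exact (hA _).2 (CoactNorm.coact_coeff ρ hassoc x i)
  refine ⟨(CoactNorm.cp (ρ x)).toSubring A.toSubring h1, ?_, ?_⟩
  · rw [Polynomial.monic_toSubring]
    exact CoactNorm.cp_monic _
  · rw [← Polynomial.eval_map]
    have h2 : ((CoactNorm.cp (ρ x)).toSubring A.toSubring h1).map (algebraMap A R) =
        CoactNorm.cp (ρ x) := by
      ext i
      rw [Polynomial.coeff_map]
      exact Polynomial.coeff_toSubring _ _ _
    rw [h2]
    exact CoactNorm.eval_cp_self ρ hassoc hcounit x

/-- If the constant coefficient lies in `P'`, the element lies in some prime over `P'`. -/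
theorem exists_prime_of_coeff_mem {H R : Type*} [CommRing H] [Algebra k H] [Module.Finite k H]
    [CommRing R] [Algebra k R] (z : R ⊗[k] H) (P' : Ideal R) [P'.IsPrime]
    (hz : (CoactNorm.cp z).coeff 0 ∈ P') :
    ∃ w : Ideal (R ⊗[k] H), w.IsPrime ∧
      w.comap (Algebra.TensorProduct.includeLeft : R →ₐ[k] R ⊗[k] H) = P' ∧ z ∈ w := by
  let κ := P'.ResidueField
  let f : R →ₐ[k] κ := IsScalarTower.toAlgHom k R κ
  let F : R ⊗[k] H →ₐ[k] κ ⊗[k] H := Algebra.TensorProduct.map f (AlgHom.id k H)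
  have h1 : (CoactNorm.cp (F z)).coeff 0 = 0 := by
    rw [CoactNorm.cp_map, Polynomial.coeff_map]
    exact (Ideal.algebraMap_residueField_eq_zero (I := P')).2 hz
  have h2 : ¬ IsUnit (F z) := fun hu => CoactNorm.cp_coeff_zero_ne_zero _ hu h1
  obtain ⟨M, hM, hzM⟩ := exists_max_ideal_of_mem_nonunits h2
  have hMp : M.IsPrime := hM.isPrime
  refine ⟨M.comap F, Ideal.comap_isPrime F M, ?_, hzM⟩
  ext x
  rw [Ideal.mem_comap, Ideal.mem_comap]
  have h3' : F ((Algebra.TensorProduct.includeLeft : R →ₐ[k] R ⊗[k] H) x) =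
      algebraMap κ (κ ⊗[k] H) (f x) := by
    simp [F]
  rw [h3']
  have h4 : (M.comap (algebraMap κ (κ ⊗[k] H))) = ⊥ := by
    rcases Ideal.eq_bot_or_top (M.comap (algebraMap κ (κ ⊗[k] H))) with h | h
    · exact h
    · exact absurd h (Ideal.comap_ne_top _ hM.ne_top)
  rw [← Ideal.mem_comap, h4, Ideal.mem_bot]
  exact Ideal.algebraMap_residueField_eq_zero (I := P')

/-- finitely many primes over a prime -/
theorem finite_primes {H R : Type*} [CommRing H] [Algebra k H] [Module.Finite k H]
    [CommRing R] [Algebra k R] (P' : Ideal R) [P'.IsPrime] :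
    {w : Ideal (R ⊗[k] H) | w.IsPrime ∧
      w.comap (Algebra.TensorProduct.includeLeft : R →ₐ[k] R ⊗[k] H) = P'}.Finite := by
  have h := Algebra.QuasiFinite.finite_primesOver (R := R) (S := R ⊗[k] H) P'
  refine h.subset fun w hw => ⟨hw.1, ⟨hw.2.symm⟩⟩

include hassoc hcounit hA in
/-- Two primes with the same trace on the invariants are joined by a prime of `R ⊗ H`. -/
theorem exists_prime (P P' : Ideal R) [P.IsPrime] [P'.IsPrime]
    (h : P.comap (algebraMap A R) = P'.comap (algebraMap A R)) :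
    ∃ w : Ideal (R ⊗[k] H), w.IsPrime ∧
      w.comap (Algebra.TensorProduct.includeLeft : R →ₐ[k] R ⊗[k] H) = P' ∧ w.comap ρ = P := by
  classical
  have hint := isIntegral ρ hassoc hcounit A hA
  by_contra hcon
  push Not at hcon
  let W := {w : Ideal (R ⊗[k] H) | w.IsPrime ∧
      w.comap (Algebra.TensorProduct.includeLeft : R →ₐ[k] R ⊗[k] H) = P'}
  have hW : W.Finite := finite_primes P'
  -- the traces
  have htr : ∀ w ∈ W, (w.comap ρ).comap (algebraMap A R) = P.comap (algebraMap A R) := by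
    intro w hw
    rw [h, ← hw.2]
    ext a
    rw [Ideal.mem_comap, Ideal.mem_comap, Ideal.mem_comap, Ideal.mem_comap]
    rw [show ρ (algebraMap A R a) = (Algebra.TensorProduct.includeLeft : R →ₐ[k] R ⊗[k] H)
      (algebraMap A R a) from (hA _).1 a.2]
  have hx : ∃ x ∈ P, ∀ w ∈ W, x ∉ w.comap ρ := by
    by_contra hne
    push Not at hne
    have hsub : (P : Set R) ⊆ ⋃ w ∈ W, (w.comap ρ : Set R) := by
      intro x hx
      obtain ⟨w, hw, hxw⟩ := hne x hx
      exact Set.mem_biUnion hw hxw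
    obtain ⟨w, hw, hle⟩ := (Ideal.subset_union_prime_finite hW (f := fun w => w.comap ρ) ⊥ ⊥
      (fun w hw _ _ => by
        haveI := hw.1
        exact Ideal.comap_isPrime ρ w)).1 hsub
    haveI := hw.1
    haveI : (w.comap ρ).IsPrime := Ideal.comap_isPrime ρ w
    apply hcon w hw.1 hw.2
    rcases hle.eq_or_lt with h1 | h1
    · exact h1.symm
    · exact absurd (htr w hw) (Ideal.IsIntegral.comap_lt_comap (R := A) h1).ne'
  obtain ⟨x, hxP, hx⟩ := hx
  have hN : (CoactNorm.cp (ρ x)).coeff 0 ∈ A := (hA _).2 (CoactNorm.coact_coeff ρ hassoc x 0)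
  have hNP : (CoactNorm.cp (ρ x)).coeff 0 ∈ P := by
    have h1 := CoactNorm.eval_cp_self ρ hassoc hcounit x
    rw [← Polynomial.divX_mul_X_add (CoactNorm.cp (ρ x))] at h1
    rw [eval_add, eval_mul, eval_X, eval_C] at h1
    have h2 : (CoactNorm.cp (ρ x)).coeff 0 = -(eval x (CoactNorm.cp (ρ x)).divX * x) := by
      linear_combination h1
    rw [h2]
    exact P.neg_mem (P.mul_mem_left _ hxP)
  have hNP' : (CoactNorm.cp (ρ x)).coeff 0 ∈ P' := by
    have : (⟨_, hN⟩ : A) ∈ P.comap (algebraMap A R) := hNP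
    rw [h] at this
    exact this
  obtain ⟨w, hw1, hw2, hw3⟩ := exists_prime_of_coeff_mem (ρ x) P' hNP'
  exact hx w ⟨hw1, hw2⟩ hw3

include hassoc hcounit hA in
theorem hasGoingDown : Algebra.HasGoingDown A R := by
  have hint := isIntegral ρ hassoc hcounit A hA
  constructor
  intro p hp Q hQ hlt
  -- lying over
  obtain ⟨Q₀, -, hQ₀, hQ₀p⟩ := Ideal.exists_ideal_over_prime_of_isIntegral (R := A) (S := R) p ⊥ (by
    intro c hc
    have : c = 0 := Subtype.val_injective (by
      have h1 : algebraMap A R c = 0 := hc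
      exact h1)
    rw [this]; exact p.zero_mem)
  -- going up
  obtain ⟨Q₁, hQ₀₁, hQ₁, hQ₁Q⟩ := Ideal.exists_ideal_over_prime_of_isIntegral (R := A) (S := R)
    (Q.under A) Q₀ (by rw [hQ₀p]; exact hlt.le)
  obtain ⟨w, hw, hw1, hw2⟩ := exists_prime ρ hassoc hcounit A hA Q Q₁ hQ₁Q.symm
  -- going down for the flat map `R → R ⊗ H`
  have hlo : w.LiesOver Q₁ := ⟨hw1.symm⟩
  obtain ⟨v, hvw, hv, hvlo⟩ := Ideal.exists_ideal_le_liesOver_of_le (R := R) (S := R ⊗[k] H)
    (p := Q₀) (q := Q₁) w hQ₀₁
  refine ⟨v.comap ρ, ?_, Ideal.comap_isPrime ρ v, ⟨?_⟩⟩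
  · rw [← hw2]
    exact Ideal.comap_mono hvw
  · have h1 : v.comap (Algebra.TensorProduct.includeLeft : R →ₐ[k] R ⊗[k] H) = Q₀ := hvlo.over.symm
    rw [← hQ₀p, ← h1]
    ext a
    change (Algebra.TensorProduct.includeLeft : R →ₐ[k] R ⊗[k] H) (algebraMap A R a) ∈ v ↔
      ρ (algebraMap A R a) ∈ v
    rw [show ρ (algebraMap A R a) = (Algebra.TensorProduct.includeLeft : R →ₐ[k] R ⊗[k] H)
      (algebraMap A R a) from (hA _).1 a.2]

include hassoc hcounit hA in
theorem finite [Algebra.FiniteType k R] : Module.Finite A R := by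
  have hint := isIntegral ρ hassoc hcounit A hA
  have : Algebra.FiniteType A R := Algebra.FiniteType.of_restrictScalars_finiteType k A R
  exact Algebra.IsIntegral.finite

include hassoc hcounit hA in
theorem finiteType [Algebra.FiniteType k R] : Algebra.FiniteType k A := by
  have hfin := finite ρ hassoc hcounit A hA
  exact ⟨fg_of_fg_of_fg k A R (Algebra.FiniteType.out) hfin.1 Subtype.val_injective⟩

include hassoc hcounit hA in
theorem isNoetherianRing [Algebra.FiniteType k R] : IsNoetherianRing A := by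
  have := finiteType ρ hassoc hcounit A hA
  exact Algebra.FiniteType.isNoetherianRing k A

include hassoc hcounit hA in
/-- heights upstairs and downstairs -/
theorem height_le [Algebra.FiniteType k R] (p : Ideal A) [p.IsPrime] (P : Ideal R) [P.IsPrime]
    (h : P.comap (algebraMap A R) = p) : p.height ≤ P.height := by
  have := hasGoingDown ρ hassoc hcounit A hA
  have hRN : IsNoetherianRing R := Algebra.FiniteType.isNoetherianRing k R
  have hAN : IsNoetherianRing A := isNoetherianRing ρ hassoc hcounit A hA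
  have hlo : P.LiesOver p := ⟨h.symm⟩
  rw [Ideal.height_eq_height_add_of_liesOver_of_hasGoingDown p P]
  exact le_self_add

end K672.CoactPrimes
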