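import Mathlib.RingTheory.Invariant.Basic
import Mathlib.Algebra.Polynomial.GroupRingAction
import Mathlib.Tactic

/-!
# Two homomorphisms to a domain that agree on the invariants are conjugate

* `exists_smul_eq`: a finite group `Γ` acts on `B`, `L` is a domain and `f f' : B →+* L` agree on `B^Γ`;
  then `f' = f ∘ γ` for some `γ`.
-/

set_option autoImplicit false

namespace K672.Conj

open Polynomial

theorem exists_smul_eq {Γ B L : Type*} [Group Γ] [Finite Γ] [CommRing B] [MulSemiringAction Γ B]
    [CommRing L] [IsDomain L] (f f' : B →+* L)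
    (h : ∀ b : B, (∀ γ : Γ, γ • b = b) → f b = f' b) : ∃ γ : Γ, ∀ x, f' x = f (γ • x) := by
  cases nonempty_fintype Γ
  classical
  by_contra hcon
  push Not at hcon
  choose x hx using hcon
  let e := Fintype.equivFin Γ
  let X : B[X] := ∑ γ : Γ, monomial (e γ : ℕ) (x γ)
  have hXc : ∀ γ : Γ, X.coeff (e γ) = x γ := by
    intro γ
    simp only [X, finsetSum_coeff, coeff_monomial]
    rw [Finset.sum_eq_single γ]
    · simp
    · intro δ _ hδ
      rw [if_neg]
      intro h
      exact hδ (e.injective (Fin.ext h))
    · simp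
  let F : B[X] →+* L[X] := mapRingHom f
  let F' : B[X] →+* L[X] := mapRingHom f'
  have hFF' : ∀ q : B[X], (∀ γ : Γ, γ • q = q) → F q = F' q := by
    intro q hq
    ext i
    simp only [F, F', coe_mapRingHom, coeff_map]
    apply h
    intro γ
    rw [← Polynomial.coeff_smul, hq]
  have hmap : (MulSemiringAction.charpoly Γ X).map F = (MulSemiringAction.charpoly Γ X).map F' := by
    ext1 i
    rw [coeff_map, coeff_map]
    exact hFF' _ (MulSemiringAction.smul_coeff_charpoly X i)
  have h0 : ((MulSemiringAction.charpoly Γ X).map F').eval (F' X) = 0 := by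
    rw [eval_map, eval₂_at_apply, MulSemiringAction.eval_charpoly, map_zero]
  rw [← hmap, MulSemiringAction.charpoly_eq, Polynomial.map_prod, eval_prod,
    Finset.prod_eq_zero_iff] at h0
  obtain ⟨γ, -, hγ⟩ := h0
  rw [Polynomial.map_sub, map_X, map_C, eval_sub, eval_X, eval_C, sub_eq_zero] at hγ
  have := congrArg (fun q => q.coeff (e γ : ℕ)) hγ
  simp only [F, F', coe_mapRingHom, coeff_map, coeff_smul, hXc] at this
  exact hx γ this

end K672.Conj
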