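import Mathlib.RingTheory.Ideal.Pointwise
import Mathlib.RingTheory.Ideal.Operations
import Mathlib.LinearAlgebra.LinearIndependent.Basic
import Mathlib.Tactic

/-!
# Decomposition and inertia groups at a maximal ideal

`Γ` is a finite group acting on the commutative ring `B`, `P` a maximal ideal.

* `exists_sep`: an element fixed by the decomposition group, `≡ 1 mod P` and lying in the other conjugates of `P`.
* `exists_sum_not_mem`: when the order of the inertia group is nonzero in `B/P`, some trace is not in `P`.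
-/

set_option autoImplicit false

namespace K672.Decomp

open scoped Pointwise

variable {B Γ : Type*} [CommRing B] [Group Γ] [Finite Γ] [MulSemiringAction Γ B] (P : Ideal B)

/-- An element fixed by the decomposition group of `P`, congruent to `1` modulo `P`, all of whose other conjugates
are in `P`. -/
theorem exists_sep [P.IsMaximal] :
    ∃ e : B, (∀ γ : Γ, γ • P = P → γ • e = e) ∧ e - 1 ∈ P ∧ ∀ γ : Γ, γ • P ≠ P → γ • e ∈ P := by
  cases nonempty_fintype Γ
  classical
  let D : Subgroup Γ := MulAction.stabilizer Γ P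
  have hD : ∀ γ, γ ∈ D ↔ γ • P = P := fun γ => Iff.rfl
  let J : Ideal B := Finset.inf (Finset.univ.filter (fun γ : Γ => γ • P ≠ P)) (fun γ => γ • P)
  have hJ : ¬ J ≤ P := by
    rw [Ideal.IsPrime.inf_le' inferInstance]
    rintro ⟨γ, hγ, hγ'⟩
    have hmax : (γ • P).IsMaximal := by
      rw [Ideal.pointwise_smul_eq_comap]
      exact Ideal.comap_isMaximal_of_equiv _
    exact (Finset.mem_filter.1 hγ).2 (hmax.eq_of_le (Ideal.IsMaximal.ne_top inferInstance) hγ')
  obtain ⟨e', he'J, he'P⟩ : ∃ e' ∈ J, e' - 1 ∈ P := by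
    obtain ⟨a, haJ, haP⟩ := SetLike.not_le_iff_exists.1 hJ
    have hu : Ideal.Quotient.mk P a ≠ 0 := by
      rwa [Ne, Ideal.Quotient.eq_zero_iff_mem]
    let := Ideal.Quotient.field P
    obtain ⟨b, hb⟩ := Ideal.Quotient.mk_surjective ((Ideal.Quotient.mk P a)⁻¹)
    refine ⟨b * a, J.mul_mem_left b haJ, ?_⟩
    rw [← Ideal.Quotient.eq_zero_iff_mem, map_sub, map_mul, hb, map_one, inv_mul_cancel₀ hu, sub_self]
  have he'J' : ∀ γ : Γ, γ • P ≠ P → e' ∈ γ • P := fun γ hγ =>
    (Finset.inf_le (Finset.mem_filter.mpr ⟨Finset.mem_univ γ, hγ⟩) : J ≤ γ • P) he'J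
  let e : B := ∏ δ : D, (δ : Γ) • e'
  have heD : ∀ γ ∈ D, γ • e = e := by
    intro γ hγ
    simp only [e, Finset.smul_prod', smul_smul]
    exact Fintype.prod_equiv (Equiv.mulLeft (⟨γ, hγ⟩ : D)) _ _ (fun x => rfl)
  have heP : e - 1 ∈ P := by
    rw [← Ideal.Quotient.eq_zero_iff_mem, map_sub, map_one, sub_eq_zero]
    simp only [e, map_prod]
    refine Finset.prod_eq_one fun δ _ => ?_
    rw [← sub_eq_zero, ← map_one (Ideal.Quotient.mk P), ← map_sub, Ideal.Quotient.eq_zero_iff_mem]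
    have : (δ : Γ) • e' - 1 = (δ : Γ) • (e' - 1) := by rw [smul_sub, smul_one]
    rw [this, ← (hD δ).1 δ.2, Ideal.smul_mem_pointwise_smul_iff]
    exact he'P
  have heJ : ∀ γ : Γ, γ • P ≠ P → e ∈ γ • P := by
    intro γ hγ
    refine Ideal.mem_of_dvd _ (Finset.dvd_prod_of_mem _ (Finset.mem_univ (1 : D))) ?_
    rw [Subgroup.coe_one, one_smul]
    exact he'J' γ hγ
  refine ⟨e, heD, heP, fun γ hγ => ?_⟩
  have h1 : γ⁻¹ • P ≠ P := fun h => hγ (by rw [← h, smul_inv_smul, h])
  have h2 : e ∈ γ⁻¹ • P := heJ _ h1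
  rwa [Ideal.mem_inv_pointwise_smul_iff] at h2

theorem exists_sum_not_mem [Fintype Γ] [P.IsMaximal]
    (hT : ((Nat.card (P.inertia Γ) : ℕ) : B ⧸ P) ≠ 0) : ∃ b : B, ∑ γ : Γ, γ • b ∉ P := by
  classical
  obtain ⟨e, heD, heP, heJ⟩ := exists_sep (Γ := Γ) P
  have he1 : Ideal.Quotient.mk P e = 1 := by
    rw [← sub_eq_zero, ← map_one (Ideal.Quotient.mk P), ← map_sub, Ideal.Quotient.eq_zero_iff_mem]
    exact heP
  by_contra hcon
  push Not at hcon
  let χ : Γ → (B →* B ⧸ P) := fun γ =>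
    ((Ideal.Quotient.mk P).comp (MulSemiringAction.toRingHom Γ B γ) : B →+* B ⧸ P)
  have hχ : ∀ γ u, χ γ u = Ideal.Quotient.mk P (γ • u) := fun γ u => rfl
  let D : Finset Γ := Finset.univ.filter (fun γ : Γ => γ • P = P)
  have h1 : ∀ u : B, ∑ γ ∈ D, χ γ u = 0 := by
    intro u
    have h2 := hcon (u * e)
    rw [← Ideal.Quotient.eq_zero_iff_mem, map_sum,
      ← Finset.sum_filter_add_sum_filter_not Finset.univ (fun γ : Γ => γ • P = P)] at h2
    rw [Finset.sum_eq_zero (s := Finset.univ.filter (fun γ : Γ => ¬ γ • P = P)), add_zero] at h2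
    · rw [← h2]
      refine Finset.sum_congr rfl fun γ hγ => ?_
      rw [hχ, smul_mul', heD γ (Finset.mem_filter.1 hγ).2, map_mul, he1, mul_one]
    · intro γ hγ
      rw [smul_mul', map_mul,
        Ideal.Quotient.eq_zero_iff_mem.2 (heJ γ (Finset.mem_filter.1 hγ).2), mul_zero]
  have h3 : ∑ ψ ∈ D.image χ, ((D.filter (fun γ => χ γ = ψ)).card : B ⧸ P) • (ψ : B → B ⧸ P) = 0 := by
    have h4 := Finset.sum_comp (s := D) (fun ψ : B →* B ⧸ P => (ψ : B → B ⧸ P)) χ
    simp_rw [Nat.cast_smul_eq_nsmul]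
    rw [← h4]
    funext u
    rw [Finset.sum_apply]
    exact h1 u
  have hli := linearIndependent_iff'.1 (linearIndependent_monoidHom B (B ⧸ P)) (D.image χ) _ h3
    (χ 1) (Finset.mem_image_of_mem _ (Finset.mem_filter.2 ⟨Finset.mem_univ _, one_smul _ _⟩))
  apply hT
  rw [← hli]
  congr 1
  rw [Nat.card_eq_fintype_card]
  refine Fintype.card_of_subtype _ fun γ => ?_
  rw [Finset.mem_filter]
  symm
  constructor
  · intro hγ
    refine ⟨Finset.mem_filter.2 ⟨Finset.mem_univ _, Ideal.inertia_le_stabilizer P hγ⟩, ?_⟩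
    ext u
    rw [hχ, hχ, one_smul, Ideal.Quotient.eq]
    exact hγ u
  · rintro ⟨-, h⟩ u
    have := DFunLike.congr_fun h u
    rw [hχ, hχ, one_smul, Ideal.Quotient.eq] at this
    exact this

end K672.Decomp
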