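import Groth.Agent.Grpsch.EtaleQuotC
import Mathlib.RingTheory.Ideal.GoingUp
import Mathlib.FieldTheory.IsAlgClosed.AlgebraicClosure
import Groth.Agent.InvTh.K672.Conj
import Mathlib.RingTheory.TensorProduct.Pi
import Mathlib.RingTheory.Invariant.Basic

/-!
# Étaleness on invariants of a finite group

A finite group `G` acts on `B` and `A`, and `β : B →+* A` is étale and equivariant.  If every prime
of `A` whose restriction to `B` has `g` in its inertia group has `g` in its own inertia group, then
the map on invariants is étale.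
-/

set_option autoImplicit false
set_option linter.all false
universe u

open TensorProduct

namespace K672.EtaleFix

/-- lifting geometric points along an injective integral ring map -/
lemma exists_lift_point {C A k : Type u} [CommRing C] [CommRing A] [Field k] [IsAlgClosed k]
    (γ : C →+* A) (hint : γ.IsIntegral) (hinj : Function.Injective γ) (φ : C →+* k) :
    ∃ x : A →+* k, x.comp γ = φ := by
  let := γ.toAlgebra
  have hI : Algebra.IsIntegral C A := ⟨hint⟩
  let P : Ideal C := RingHom.ker φ
  have hP : P.IsPrime := RingHom.ker_isPrime φ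
  obtain ⟨Q, -, hQ, hQP⟩ := Ideal.exists_ideal_over_prime_of_isIntegral (R := C) (S := A) P ⊥ (by
    intro c hc
    have : c = 0 := hinj (by rw [map_zero]; exact hc)
    rw [this]; exact P.zero_mem)
  let ι : C ⧸ P →+* A ⧸ Q := Ideal.quotientMap Q γ hQP.ge
  have hι : Function.Injective ι := Ideal.quotientMap_injective' (f := γ) hQP.le
  let ψ : C ⧸ P →+* k := Ideal.Quotient.lift P φ (fun c hc => hc)
  have hψ : Function.Injective ψ := by
    rw [injective_iff_map_eq_zero]
    intro x hx
    obtain ⟨c, rfl⟩ := Ideal.Quotient.mk_surjective x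
    exact Ideal.Quotient.eq_zero_iff_mem.mpr hx
  let := ι.toAlgebra
  let := ψ.toAlgebra
  have h1 : Algebra.IsIntegral (C ⧸ P) (A ⧸ Q) := by
    refine ⟨fun x => ?_⟩
    obtain ⟨a, rfl⟩ := Ideal.Quotient.mk_surjective x
    obtain ⟨p, hp, hpa⟩ := hint a
    refine ⟨p.map (Ideal.Quotient.mk P), hp.map _, ?_⟩
    rw [Polynomial.eval₂_map]
    have : (algebraMap (C ⧸ P) (A ⧸ Q)).comp (Ideal.Quotient.mk P) = (Ideal.Quotient.mk Q).comp γ := by
      ext c; rfl
    rw [this, ← Polynomial.hom_eval₂, hpa, map_zero]
  have h3 : FaithfulSMul (C ⧸ P) (A ⧸ Q) := (faithfulSMul_iff_algebraMap_injective _ _).mpr hι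
  have h4 : FaithfulSMul (C ⧸ P) k := (faithfulSMul_iff_algebraMap_injective _ _).mpr hψ
  have h5 : Module.IsTorsionFree (C ⧸ P) (A ⧸ Q) := inferInstance
  let ℓ : A ⧸ Q →ₐ[C ⧸ P] k := IsAlgClosed.lift
  refine ⟨(ℓ : A ⧸ Q →+* k).comp (Ideal.Quotient.mk Q), ?_⟩
  ext c
  exact ℓ.commutes (Ideal.Quotient.mk P c)

section pi

variable (G : Type u) [Finite G] {A B : Type u} [CommRing A] [CommRing B]

/-- the diagonal -/
def diag (B : Type u) [CommRing B] : B →+* (G → B) := Pi.constRingHom G B

/-- componentwise map -/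
def pw (β : B →+* A) : (G → B) →+* (G → A) := RingHom.pi fun g => β.comp (Pi.evalRingHom _ g)

@[simp] lemma diag_apply (b : B) (g : G) : diag G B b g = b := rfl
@[simp] lemma pw_apply (β : B →+* A) (b : G → B) (g : G) : pw G β b g = β (b g) := rfl

lemma diag_finite (B : Type u) [CommRing B] : (diag G B).Finite := by
  letI := (diag G B).toAlgebra
  have h : Module.Finite B (G → B) := Module.Finite.pi
  exact h

lemma pw_etale (β : B →+* A) (hβ : β.Etale) : (pw G β).Etale := by
  classical
  cases nonempty_fintype G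
  letI := β.toAlgebra
  haveI : Algebra.Etale B A := hβ
  let e : A ⊗[B] (G → B) ≃ₐ[A] (G → A) := Algebra.TensorProduct.piScalarRight B A A G
  let c : (G → B) ⊗[B] A ≃ₐ[B] A ⊗[B] (G → B) := Algebra.TensorProduct.comm B (G → B) A
  have h1 : (algebraMap (G → B) ((G → B) ⊗[B] A)).Etale := by
    rw [RingHom.etale_algebraMap]
    infer_instance
  have h2 := RingHom.Etale.respectsIso.1 _ (c.toRingEquiv.trans e.toRingEquiv) h1
  convert h2 using 1
  refine RingHom.ext fun x => funext fun g => ?_
  change β (x g) = e (c (x ⊗ₜ 1)) g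
  simp only [e, c, Algebra.TensorProduct.comm_tmul, Algebra.TensorProduct.piScalarRight_tmul_apply]
  rw [Algebra.smul_def, mul_one]
  rfl

variable {G}

lemma push (β : B →+* A) {X : Type u} [CommRing X] (a : A →+* X) (b : (G → B) →+* X)
    (hab : ∀ x, a (β x) = b (diag G B x)) :
    ∃ γ : (G → A) →+* X, (∀ x, γ (diag G A x) = a x) ∧ ∀ x, γ (pw G β x) = b x := by
  classical
  cases nonempty_fintype G
  let δ : G → (G → B) := fun g => Pi.single g 1
  have hδ1 : ∑ g, δ g = 1 := by
    ext h
    simp [δ, Finset.sum_apply, Pi.single_apply]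
  have hδm : ∀ g h, g ≠ h → δ g * δ h = 0 := by
    intro g h hgh
    ext k
    simp only [δ, Pi.mul_apply, Pi.single_apply, Pi.zero_apply]
    split_ifs with h1 h2
    · exact absurd (h1.symm.trans h2) hgh
    · simp
    · simp
    · simp
  have hδi : ∀ g, δ g * δ g = δ g := by
    intro g
    ext k
    simp only [δ, Pi.mul_apply, Pi.single_apply]
    split_ifs <;> simp
  let F : (G → A) → X := fun f => ∑ g, a (f g) * b (δ g)
  have hbsum : ∑ g, b (δ g) = 1 := by rw [← map_sum, hδ1, map_one]
  let γ : (G → A) →+* X :=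
    { toFun := F
      map_one' := by simp [F, hbsum]
      map_zero' := by simp [F]
      map_add' := fun x y => by simp [F, add_mul, Finset.sum_add_distrib]
      map_mul' := fun x y => by
        simp only [F, Pi.mul_apply, map_mul]
        rw [Finset.sum_mul_sum]
        refine Finset.sum_congr rfl fun g _ => ?_
        rw [Finset.sum_eq_single g]
        · rw [show a (x g) * b (δ g) * (a (y g) * b (δ g)) = a (x g) * a (y g) * (b (δ g) * b (δ g)) by ring,
            ← map_mul b, hδi]
        · intro h _ hgh
          rw [show a (x g) * b (δ g) * (a (y h) * b (δ h)) = a (x g) * a (y h) * (b (δ g) * b (δ h)) by ring,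
            ← map_mul b, hδm g h hgh.symm, map_zero, mul_zero]
        · intro h; exact absurd (Finset.mem_univ _) h }
  refine ⟨γ, fun x => ?_, fun x => ?_⟩
  · change ∑ g, a x * b (δ g) = a x
    rw [← Finset.mul_sum, hbsum, mul_one]
  · change ∑ g, a (β (x g)) * b (δ g) = b x
    have : ∀ g, a (β (x g)) * b (δ g) = b (x * δ g) := by
      intro g
      rw [hab, ← map_mul]
      congr 1
      ext k
      simp only [δ, Pi.mul_apply, Pi.single_apply, diag_apply]
      split_ifs with h
      · rw [h]
      · simp
    simp_rw [this]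
    rw [← map_sum, ← Finset.mul_sum, hδ1, mul_one]

lemma closure_diag (β : B →+* A) :
    Subring.closure (Set.range (diag G A) ∪ Set.range (pw G β)) = ⊤ := by
  classical
  cases nonempty_fintype G
  rw [eq_top_iff]
  intro x _
  have hx : x = ∑ g, diag G A (x g) * pw G β (Pi.single g 1) := by
    ext h
    simp only [Finset.sum_apply, Pi.mul_apply, diag_apply, pw_apply, Pi.single_apply]
    rw [Finset.sum_eq_single h]
    · simp
    · intro k _ hk
      rw [if_neg hk.symm]; simp
    · intro h; exact absurd (Finset.mem_univ _) h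
  rw [hx]
  refine sum_mem fun g _ => mul_mem (Subring.subset_closure (Or.inl ⟨_, rfl⟩))
    (Subring.subset_closure (Or.inr ⟨_, rfl⟩))

end pi

section action

variable {G : Type u} [Group G] [Finite G] {A B : Type u} [CommRing A] [CommRing B]
  [MulSemiringAction G A] [MulSemiringAction G B]

/-- twist of a function by the action -/
def tw (G : Type u) [Group G] (B : Type u) [CommRing B] [MulSemiringAction G B] :
    (G → B) ≃+* (G → B) where
  toFun f g := g • f g
  invFun f g := g⁻¹ • f g
  left_inv f := by ext g; simp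
  right_inv f := by ext g; simp
  map_mul' x y := by ext g; simp
  map_add' x y := by ext g; simp

@[simp] lemma tw_apply (f : G → B) (g : G) : tw G B f g = g • f g := rfl
@[simp] lemma tw_symm_apply (f : G → B) (g : G) : (tw G B).symm f g = g⁻¹ • f g := rfl

/-- a ring homomorphism from a finite product to a domain factors through a coordinate -/
lemma exists_eval {K : Type*} [CommRing K] [IsDomain K] (r : (G → B) →+* K) :
    ∃ (g : G) (x : B →+* K), ∀ f, r f = x (f g) := by
  classical
  cases nonempty_fintype G
  let δ : G → (G → B) := fun g => Pi.single g 1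
  have hδ1 : ∑ g, δ g = 1 := by
    ext h
    simp [δ, Finset.sum_apply, Pi.single_apply]
  have hδm : ∀ g h, g ≠ h → δ g * δ h = 0 := by
    intro g h hgh
    ext k
    simp only [δ, Pi.mul_apply, Pi.single_apply, Pi.zero_apply]
    split_ifs with h1 h2
    · exact absurd (h1.symm.trans h2) hgh
    · simp
    · simp
    · simp
  obtain ⟨g, hg⟩ : ∃ g, r (δ g) ≠ 0 := by
    by_contra hcon
    push Not at hcon
    have : r 1 = 0 := by rw [← hδ1, map_sum]; exact Finset.sum_eq_zero fun g _ => hcon g
    rw [map_one] at this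
    exact one_ne_zero this
  have hz : ∀ h, h ≠ g → r (δ h) = 0 := by
    intro h hh
    have : r (δ h) * r (δ g) = 0 := by rw [← map_mul, hδm h g hh, map_zero]
    exact (mul_eq_zero.mp this).resolve_right hg
  have h1 : r (δ g) = 1 := by
    have : r 1 = r (δ g) := by
      rw [← hδ1, map_sum]
      exact Finset.sum_eq_single g (fun h _ hh => hz h hh) (fun h => absurd (Finset.mem_univ _) h)
    rw [← this, map_one]
  refine ⟨g, r.comp (Pi.constRingHom G B), fun f => ?_⟩
  have h2 : f * δ g = Pi.constRingHom G B (f g) * δ g := by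
    ext k
    simp only [δ, Pi.mul_apply, Pi.single_apply]
    split_ifs with h
    · subst h; rfl
    · simp
  have h3 := congrArg r h2
  rw [map_mul, map_mul, h1, mul_one, mul_one] at h3
  exact h3

/-- Étaleness on invariants. -/
theorem etale_eqLocus (β : B →+* A) (hβ : β.Etale) (hG : ∀ (g : G) (b : B), β (g • b) = g • β b)
    (f₀ : RingHom.eqLocus (diag G B) ((tw G B : (G → B) →+* (G → B)).comp (diag G B)) →+*
      RingHom.eqLocus (diag G A) ((tw G A : (G → A) →+* (G → A)).comp (diag G A)))
    (hf₀ : ∀ c, (f₀ c : A) = β c)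
    (stab : ∀ (P : Ideal A) [P.IsPrime] (g : G), (∀ b, g • β b - β b ∈ P) → ∀ a : A, g • a - a ∈ P) :
    f₀.Etale := by
  classical
  cases nonempty_fintype G
  have mem_B : ∀ b : B, b ∈ RingHom.eqLocus (diag G B)
      ((tw G B : (G → B) →+* (G → B)).comp (diag G B)) ↔ ∀ g : G, g • b = b := by
    intro b
    constructor
    · intro h g
      exact (congrFun h g).symm
    · intro h
      change diag G B b = _
      ext g
      exact (h g).symm
  have mem_A : ∀ b : A, b ∈ RingHom.eqLocus (diag G A)
      ((tw G A : (G → A) →+* (G → A)).comp (diag G A)) ↔ ∀ g : G, g • b = b := by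
    intro b
    constructor
    · intro h g
      exact (congrFun h g).symm
    · intro h
      change diag G A b = _
      ext g
      exact (h g).symm
  haveI hIB : Algebra.IsIntegral (RingHom.eqLocus (diag G B)
      ((tw G B : (G → B) →+* (G → B)).comp (diag G B))) B := by
    haveI : Algebra.IsInvariant (RingHom.eqLocus (diag G B)
      ((tw G B : (G → B) →+* (G → B)).comp (diag G B))) B G :=
      ⟨fun b hb => ⟨⟨b, (mem_B b).2 hb⟩, rfl⟩⟩
    exact Algebra.IsInvariant.isIntegral _ B G
  haveI hIA : Algebra.IsIntegral (RingHom.eqLocus (diag G A)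
      ((tw G A : (G → A) →+* (G → A)).comp (diag G A))) A := by
    haveI : Algebra.IsInvariant (RingHom.eqLocus (diag G A)
      ((tw G A : (G → A) →+* (G → A)).comp (diag G A))) A G :=
      ⟨fun b hb => ⟨⟨b, (mem_A b).2 hb⟩, rfl⟩⟩
    exact Algebra.IsInvariant.isIntegral _ A G
  refine Groth.Agent.Grpsch.EtaleQuotC.etale_of_eqLocus (diag G B)
    ((tw G B : (G → B) →+* (G → B)).comp (diag G B)) (diag G A)
    ((tw G A : (G → A) →+* (G → A)).comp (diag G A)) β (pw G β) (fun a => rfl)
    (fun a => by ext g; exact (hG g a).symm) f₀ hf₀ (closure_diag β) ?_ hβ (pw_etale G β hβ)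
    (diag_finite G B) ?_ ?_ ?_ ?_ ?_ (fun X _ a b h => push β a b h) ?_
  · -- generation for `t'`
    rw [eq_top_iff]
    intro x _
    have hx : x = ∑ g, ((tw G A : (G → A) →+* (G → A)).comp (diag G A)) (g⁻¹ • x g) *
        pw G β (Pi.single g 1) := by
      ext h
      simp only [Finset.sum_apply, Pi.mul_apply, pw_apply, Pi.single_apply]
      rw [Finset.sum_eq_single h]
      · simp
      · intro k _ hk
        rw [if_neg hk.symm]; simp
      · intro h; exact absurd (Finset.mem_univ _) h
    rw [hx]
    refine sum_mem fun g _ => mul_mem (Subring.subset_closure (Or.inl ⟨_, rfl⟩))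
      (Subring.subset_closure (Or.inr ⟨_, rfl⟩))
  · -- finiteness of `t`
    exact RingHom.Finite.comp (RingHom.Finite.of_surjective _ (tw G B).surjective) (diag_finite G B)
  · intro K _ _ x₀ x₁ h
    obtain ⟨g, hg⟩ := K672.Conj.exists_smul_eq (Γ := G) x₁ x₀ (fun b hb => (h b (by
      ext g; exact (hb g).symm)).symm)
    refine ⟨x₁.comp (Pi.evalRingHom _ g), fun a => ?_, fun a => rfl⟩
    exact (hg a).symm
  · intro K _ _ x₀ x₁ h
    obtain ⟨g, hg⟩ := K672.Conj.exists_smul_eq (Γ := G) x₁ x₀ (fun b hb => (h b (by
      ext g; exact (hb g).symm)).symm)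
    refine ⟨x₁.comp (Pi.evalRingHom _ g), fun a => ?_, fun a => rfl⟩
    exact (hg a).symm
  · intro K _ _ κ
    obtain ⟨x, hx⟩ := exists_lift_point
      (RingHom.eqLocus (diag G A) ((tw G A : (G → A) →+* (G → A)).comp (diag G A))).subtype
      hIA.isIntegral Subtype.val_injective κ
    exact ⟨x, fun c => congr($hx c)⟩
  · intro K _ _ r hr a
    obtain ⟨g, x, hx⟩ := exists_eval r
    have hker : (RingHom.ker x).IsPrime := RingHom.ker_isPrime x
    have h1 := stab (RingHom.ker x) g (fun b => by
      rw [RingHom.mem_ker, map_sub, sub_eq_zero]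
      have := hr b
      rw [hx, hx] at this
      rw [← hG]
      exact this.symm) a
    rw [RingHom.mem_ker, map_sub, sub_eq_zero] at h1
    rw [hx, hx]
    exact h1.symm
  · intro X _ a b h
    obtain ⟨γ, h1, h2⟩ := push β a (b.comp (tw G B : (G → B) →+* (G → B))) h
    refine ⟨γ.comp ((tw G A).symm : (G → A) →+* (G → A)), fun x => ?_, fun x => ?_⟩
    · have : (tw G A).symm (((tw G A : (G → A) →+* (G → A)).comp (diag G A)) x) = diag G A x := by
        ext g; simp
      change γ ((tw G A).symm _) = _
      rw [this, h1]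
    · have : (tw G A).symm (pw G β x) = pw G β ((tw G B).symm x) := by
        ext g; simp [hG]
      change γ ((tw G A).symm _) = _
      rw [this, h2]
      change b (tw G B ((tw G B).symm x)) = _
      rw [RingEquiv.apply_symm_apply]

end action

end K672.EtaleFix
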