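import Groth.Agent.InvTh.K672.EtaleFix
import Mathlib.RingTheory.Unramified.Finite
import Mathlib.RingTheory.Etale.Locus
import Mathlib.RingTheory.Ideal.Maps

/-!
# Étaleness on invariants, II

* `exists_elem`: two maps from an unramified algebra agree on a clopen subset.
* `etale_of_invariants`: étaleness on rings of invariants, for abstract rings of invariants.
* `etale_away`: the same, after inverting an invariant.
-/

set_option autoImplicit false
set_option linter.all false
universe u

open TensorProduct

namespace K672.EtaleInert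

/-- two maps from an unramified algebra agree on a clopen subset -/
theorem exists_elem {B A C : Type*} [CommRing A] [CommRing B] [CommRing C] [Algebra B A]
    [Algebra B C] [Algebra.FormallyUnramified B A] [Algebra.EssFiniteType B A]
    (φ ψ : A →ₐ[B] C) :
    ∃ e : C, (∀ a, (ψ a - φ a) * e = 0) ∧ 1 - e ∈ Ideal.span (Set.range fun a => ψ a - φ a) := by
  let Φ : A ⊗[B] A →ₐ[B] C := Algebra.TensorProduct.lift φ ψ fun _ _ => Commute.all _ _
  refine ⟨Φ (Algebra.FormallyUnramified.elem B A), fun a => ?_, ?_⟩
  · have h : ψ a - φ a = Φ (1 ⊗ₜ a - a ⊗ₜ 1) := by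
      simp [Φ]
    rw [h, ← map_mul, Algebra.FormallyUnramified.one_tmul_sub_tmul_one_mul_elem, map_zero]
  · set I := Ideal.span (Set.range fun a => ψ a - φ a) with hI
    have h1 : (Ideal.Quotient.mkₐ B I).comp Φ =
        ((Ideal.Quotient.mkₐ B I).comp φ).comp (Algebra.TensorProduct.lmul' B) := by
      apply Algebra.TensorProduct.ext
      · ext a
        simp [Φ]
      · ext a
        simp only [Φ, AlgHom.comp_apply, AlgHom.restrictScalars_apply,
          Algebra.TensorProduct.includeRight_apply, Algebra.TensorProduct.lift_tmul, map_one,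
          one_mul, Algebra.TensorProduct.lmul'_apply_tmul, Ideal.Quotient.mkₐ_eq_mk]
        rw [Ideal.Quotient.mk_eq_mk_iff_sub_mem]
        exact Ideal.subset_span ⟨a, rfl⟩
    have h2 := congr($h1 (Algebra.FormallyUnramified.elem B A))
    simp only [AlgHom.comp_apply, Algebra.FormallyUnramified.lmul_elem, map_one] at h2
    rw [← Ideal.Quotient.eq_zero_iff_mem, map_sub, map_one, sub_eq_zero]
    exact h2.symm

/-- The same for an endomorphism of `A`. -/
theorem exists_elem_end {B A : Type*} [CommRing A] [CommRing B] [Algebra B A]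
    [Algebra.FormallyUnramified B A] [Algebra.EssFiniteType B A] (σ : A →+* A) :
    ∃ e : A, (∀ a, (σ a - a) * e ∈
        Ideal.span (Set.range fun b : B => σ (algebraMap B A b) - algebraMap B A b)) ∧
      1 - e ∈ Ideal.span (Set.range fun a => σ a - a) := by
  set I := Ideal.span (Set.range fun b : B => σ (algebraMap B A b) - algebraMap B A b) with hI
  have hIJ : I ≤ Ideal.span (Set.range fun a => σ a - a) := by
    rw [hI, Ideal.span_le]
    rintro _ ⟨b, rfl⟩
    exact Ideal.subset_span ⟨algebraMap B A b, rfl⟩
  let φ : A →ₐ[B] A ⧸ I := Ideal.Quotient.mkₐ B I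
  let ψ : A →ₐ[B] A ⧸ I :=
    { (Ideal.Quotient.mk I).comp σ with
      commutes' := fun b => by
        change Ideal.Quotient.mk I (σ (algebraMap B A b)) = Ideal.Quotient.mk I (algebraMap B A b)
        rw [Ideal.Quotient.mk_eq_mk_iff_sub_mem]
        exact Ideal.subset_span ⟨b, rfl⟩ }
  obtain ⟨e, he1, he2⟩ := exists_elem φ ψ
  obtain ⟨e, rfl⟩ := Ideal.Quotient.mk_surjective e
  refine ⟨e, fun a => ?_, ?_⟩
  · rw [← Ideal.Quotient.eq_zero_iff_mem, map_mul, map_sub]
    exact he1 a
  · have h3 : Ideal.span (Set.range fun a => ψ a - φ a) =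
        (Ideal.span (Set.range fun a => σ a - a)).map (Ideal.Quotient.mk I) := by
      rw [Ideal.map_span, ← Set.range_comp]
      congr 1
    rw [h3, ← map_one (Ideal.Quotient.mk I), ← map_sub, Ideal.mem_quotient_iff_mem hIJ] at he2
    exact he2

section invariants

variable {G C B A C' : Type u} [Group G] [Finite G] [CommRing C] [CommRing B] [CommRing A]
  [CommRing C'] [MulSemiringAction G A] [MulSemiringAction G B] [Algebra B A] [Algebra C B]
  [Algebra C' A] [Algebra C C']

/-- Étaleness on rings of invariants. -/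
theorem etale_of_invariants (hC : Function.Injective (algebraMap C B))
    (hC' : Function.Injective (algebraMap C' A))
    (hB : ∀ b : B, (∀ g : G, g • b = b) ↔ ∃ c, algebraMap C B c = b)
    (hA : ∀ a : A, (∀ g : G, g • a = a) ↔ ∃ c, algebraMap C' A c = a)
    (hcomp : ∀ c, algebraMap C' A (algebraMap C C' c) = algebraMap B A (algebraMap C B c))
    (hG : ∀ (g : G) (b : B), algebraMap B A (g • b) = g • algebraMap B A b)
    [Algebra.Etale B A]
    (stab : ∀ (P : Ideal A) [P.IsPrime] (g : G),
      (∀ b, g • algebraMap B A b - algebraMap B A b ∈ P) → ∀ a : A, g • a - a ∈ P) :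
    Algebra.Etale C C' := by
  classical
  let L := RingHom.eqLocus (EtaleFix.diag G B)
    ((EtaleFix.tw G B : (G → B) →+* (G → B)).comp (EtaleFix.diag G B))
  let L' := RingHom.eqLocus (EtaleFix.diag G A)
    ((EtaleFix.tw G A : (G → A) →+* (G → A)).comp (EtaleFix.diag G A))
  have memL : ∀ b : B, b ∈ L ↔ ∀ g : G, g • b = b := by
    intro b
    constructor
    · intro h g
      exact (congrFun h g).symm
    · intro h
      change EtaleFix.diag G B b = _
      ext g
      exact (h g).symm
  have memL' : ∀ b : A, b ∈ L' ↔ ∀ g : G, g • b = b := by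
    intro b
    constructor
    · intro h g
      exact (congrFun h g).symm
    · intro h
      change EtaleFix.diag G A b = _
      ext g
      exact (h g).symm
  let eC₀ : C →+* L := (algebraMap C B).codRestrict L fun c => (memL _).2 ((hB _).2 ⟨c, rfl⟩)
  let eC₀' : C' →+* L' := (algebraMap C' A).codRestrict L' fun c => (memL' _).2 ((hA _).2 ⟨c, rfl⟩)
  have he : Function.Bijective eC₀ := by
    refine ⟨fun x y h => hC (congrArg Subtype.val h), fun b => ?_⟩
    obtain ⟨c, hc⟩ := (hB b.1).1 ((memL _).1 b.2)
    exact ⟨c, Subtype.ext hc⟩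
  have he' : Function.Bijective eC₀' := by
    refine ⟨fun x y h => hC' (congrArg Subtype.val h), fun b => ?_⟩
    obtain ⟨c, hc⟩ := (hA b.1).1 ((memL' _).1 b.2)
    exact ⟨c, Subtype.ext hc⟩
  let eC : C ≃+* L := RingEquiv.ofBijective eC₀ he
  let eC' : C' ≃+* L' := RingEquiv.ofBijective eC₀' he'
  let f₀ : L →+* L' := (eC' : C' →+* L').comp ((algebraMap C C').comp (eC.symm : L →+* C))
  have h1 : ∀ c, (f₀ c : A) = algebraMap B A c := by
    intro c
    obtain ⟨c, rfl⟩ := eC.surjective c
    change ((eC' (algebraMap C C' (eC.symm (eC c))) : L') : A) = _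
    rw [RingEquiv.symm_apply_apply]
    exact hcomp c
  have h2 := EtaleFix.etale_eqLocus (G := G) (algebraMap B A)
    (RingHom.etale_algebraMap.2 inferInstance) hG f₀ h1 stab
  have h3 := RingHom.Etale.respectsIso.1 _ eC'.symm (RingHom.Etale.respectsIso.2 _ eC h2)
  rw [← RingHom.etale_algebraMap]
  convert h3 using 1
  ext c
  change _ = eC'.symm (eC' (algebraMap C C' (eC.symm (eC c))))
  rw [RingEquiv.symm_apply_apply, RingEquiv.symm_apply_apply]

end invariants

section locAction

variable {G A : Type*} [Group G] [CommRing A] [MulSemiringAction G A]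
  (f : A) (hf : ∀ g : G, g • f = f) (Af : Type*) [CommRing Af] [Algebra A Af]
  [IsLocalization.Away f Af]

/-- the action on a localization, as a homomorphism to the monoid of endomorphisms -/
noncomputable def locAct : G →* (Af →+* Af) where
  toFun g := IsLocalization.map Af (MulSemiringAction.toRingHom G A g)
    (M := Submonoid.powers f) (T := Submonoid.powers f) (by
      rw [Submonoid.powers_le]
      exact ⟨1, by simp [hf]⟩)
  map_one' := by
    apply IsLocalization.ringHom_ext (Submonoid.powers f)
    ext a
    simp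
  map_mul' g h := by
    apply IsLocalization.ringHom_ext (Submonoid.powers f)
    ext a
    simp [mul_smul]

/-- the action on a localization at an invariant -/
@[reducible] noncomputable def locAction : MulSemiringAction G Af :=
  MulSemiringAction.compHom Af (locAct f hf Af)

lemma locAct_algebraMap (g : G) (a : A) :
    letI := locAction f hf Af
    g • algebraMap A Af a = algebraMap A Af (g • a) := by
  change locAct f hf Af g (algebraMap A Af a) = _
  simp [locAct]

/-- invariants of a localization at an invariant -/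
lemma exists_invariant [Finite G] (x : Af)
    (hx : letI := locAction f hf Af; ∀ g : G, g • x = x) :
    ∃ (a : A) (n : ℕ), (∀ g : G, g • a = a) ∧ x * algebraMap A Af (f ^ n) = algebraMap A Af a := by
  classical
  cases nonempty_fintype G
  letI := locAction f hf Af
  obtain ⟨⟨a, ⟨_, n, rfl⟩⟩, hn⟩ := IsLocalization.surj (Submonoid.powers f) x
  have h1 : ∀ g : G, ∃ m : ℕ, f ^ m * (g • a) = f ^ m * a := by
    intro g
    have h2 : algebraMap A Af (g • a) = algebraMap A Af a := by
      rw [← locAct_algebraMap f hf Af, ← hn, smul_mul', hx, locAct_algebraMap f hf Af]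
      simp [smul_pow', hf]
    obtain ⟨⟨_, m, rfl⟩, hm⟩ := (IsLocalization.eq_iff_exists (Submonoid.powers f) Af).1 h2
    exact ⟨m, hm⟩
  choose m hm using h1
  let M := ∑ g, m g
  have h2 : ∀ g : G, g • (f ^ M * a) = f ^ M * a := by
    intro g
    have h3 : M = (∑ g' ∈ Finset.univ.erase g, m g') + m g := by
      rw [Finset.sum_erase_add _ _ (Finset.mem_univ g)]
    rw [smul_mul', smul_pow', hf, h3, pow_add, mul_assoc, hm g, mul_assoc]
  refine ⟨f ^ M * a, n + M, h2, ?_⟩
  simp only at hn
  rw [pow_add, map_mul, ← mul_assoc, hn, ← map_mul, mul_comm]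

end locAction

section away

variable {G C B A C' : Type u} [Group G] [Finite G] [CommRing C] [CommRing B] [CommRing A]
  [CommRing C'] [MulSemiringAction G A] [MulSemiringAction G B] [Algebra B A] [Algebra C B]
  [Algebra C' A] [Algebra C C']

/-- Étaleness on invariants away from an invariant. -/
theorem etale_away (hC : Function.Injective (algebraMap C B))
    (hC' : Function.Injective (algebraMap C' A))
    (hB : ∀ b : B, (∀ g : G, g • b = b) ↔ ∃ c, algebraMap C B c = b)
    (hA : ∀ a : A, (∀ g : G, g • a = a) ↔ ∃ c, algebraMap C' A c = a)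
    (hcomp : ∀ c, algebraMap C' A (algebraMap C C' c) = algebraMap B A (algebraMap C B c))
    (hG : ∀ (g : G) (b : B), algebraMap B A (g • b) = g • algebraMap B A b)
    (f : C') (hf : Algebra.Etale B (Localization.Away (algebraMap C' A f)))
    (stab : ∀ (P : Ideal A) [P.IsPrime] (g : G), algebraMap C' A f ∉ P →
      (∀ b, g • algebraMap B A b - algebraMap B A b ∈ P) → ∀ a : A, g • a - a ∈ P) :
    Algebra.Etale C (Localization.Away f) := by
  classical
  set h : A := algebraMap C' A f with hh
  let Ah := Localization.Away h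
  let Cf := Localization.Away f
  have hinv : ∀ g : G, g • h = h := (hA h).2 ⟨f, rfl⟩
  letI : MulSemiringAction G Ah := locAction h hinv Ah
  have hact : ∀ (g : G) (a : A), g • algebraMap A Ah a = algebraMap A Ah (g • a) :=
    locAct_algebraMap h hinv Ah
  let ι : Cf →+* Ah := IsLocalization.Away.map Cf Ah (algebraMap C' A) f
  have hι : ∀ c, ι (algebraMap C' Cf c) = algebraMap A Ah (algebraMap C' A c) := by
    intro c
    simp [ι, IsLocalization.Away.map]
  letI : Algebra Cf Ah := ι.toAlgebra
  have halg : ∀ c, algebraMap Cf Ah c = ι c := fun _ => rfl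
  have hBAh : ∀ b, algebraMap B Ah b = algebraMap A Ah (algebraMap B A b) := fun b =>
    IsScalarTower.algebraMap_apply B A Ah b
  refine etale_of_invariants (G := G) (B := B) (A := Ah) hC ?_ hB ?_ ?_ ?_ ?_
  · rw [injective_iff_map_eq_zero]
    intro x hx
    obtain ⟨⟨c, ⟨_, n, rfl⟩⟩, hn⟩ := IsLocalization.surj (Submonoid.powers f) x
    have h1 : algebraMap A Ah (algebraMap C' A c) = 0 := by
      rw [← hι]
      simp only at hn
      rw [← hn, map_mul, ← halg x, hx, zero_mul]
    obtain ⟨⟨_, m, rfl⟩, hm⟩ := (IsLocalization.map_eq_zero_iff (Submonoid.powers h) Ah _).1 h1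
    have h2 : f ^ m * c = 0 := by
      apply hC'
      rw [map_mul, map_pow, map_zero]
      exact hm
    have h3 : algebraMap C' Cf c = 0 :=
      (IsLocalization.map_eq_zero_iff (Submonoid.powers f) Cf _).2 ⟨⟨_, m, rfl⟩, h2⟩
    simp only at hn
    rw [h3] at hn
    exact ((IsLocalization.map_units Cf (⟨f ^ n, n, rfl⟩ : Submonoid.powers f)).mul_left_eq_zero).1 hn
  · intro x
    constructor
    · intro hx
      obtain ⟨a, n, ha, hxa⟩ := exists_invariant h hinv Ah x hx
      obtain ⟨c, rfl⟩ := (hA a).1 ha
      refine ⟨IsLocalization.mk' Cf c (⟨f ^ n, n, rfl⟩ : Submonoid.powers f), ?_⟩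
      have h1 : algebraMap Cf Ah (IsLocalization.mk' Cf c (⟨f ^ n, n, rfl⟩ : Submonoid.powers f)) *
          algebraMap A Ah (h ^ n) = algebraMap A Ah (algebraMap C' A c) := by
        have h2 := IsLocalization.mk'_spec Cf c (⟨f ^ n, n, rfl⟩ : Submonoid.powers f)
        have h3 := congrArg ι h2
        rw [map_mul, hι, hι] at h3
        simp only [map_pow] at h3
        rw [map_pow]
        exact h3
      exact (IsLocalization.map_units Ah (⟨h ^ n, n, rfl⟩ : Submonoid.powers h)).mul_right_cancel
        (h1.trans hxa.symm)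
    · rintro ⟨c, rfl⟩ g
      obtain ⟨⟨c', ⟨_, n, rfl⟩⟩, hn⟩ := IsLocalization.surj (Submonoid.powers f) c
      have h1 : algebraMap Cf Ah c * algebraMap A Ah (h ^ n) = algebraMap A Ah (algebraMap C' A c') := by
        have h3 := congrArg ι hn
        simp only at h3
        rw [map_mul, hι, hι] at h3
        simp only [map_pow] at h3
        rw [map_pow]
        exact h3
      have h2 := congrArg (g • ·) h1
      simp only [smul_mul', hact] at h2
      rw [smul_pow', hinv, (hA _).2 ⟨c', rfl⟩ g, ← h1] at h2
      exact (IsLocalization.map_units Ah (⟨h ^ n, n, rfl⟩ : Submonoid.powers h)).mul_right_cancel h2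
  · intro c
    rw [IsScalarTower.algebraMap_apply C C' Cf, halg, hι, hcomp, hBAh]
  · intro g b
    rw [hBAh, hBAh, hact, hG]
  · intro P hP g hg a
    have hPA : (P.comap (algebraMap A Ah)).IsPrime := Ideal.comap_isPrime _ _
    have hhP : h ∉ P.comap (algebraMap A Ah) := by
      intro hmem
      exact hP.ne_top (Ideal.eq_top_of_isUnit_mem _ hmem
        (IsLocalization.map_units Ah (⟨h, 1, pow_one h⟩ : Submonoid.powers h)))
    have h1 := stab (P.comap (algebraMap A Ah)) g hhP (fun b => by
      rw [Ideal.mem_comap, map_sub, ← hact, ← hBAh]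
      exact hg b)
    obtain ⟨⟨a', ⟨_, n, rfl⟩⟩, hn⟩ := IsLocalization.surj (Submonoid.powers h) a
    simp only at hn
    have h2 : (g • a - a) * algebraMap A Ah (h ^ n) ∈ P := by
      have h3 : (g • a - a) * algebraMap A Ah (h ^ n) = algebraMap A Ah (g • a' - a') := by
        rw [sub_mul, hn, map_sub, ← hact, ← hn, smul_mul', hact, smul_pow', hinv]
      rw [h3]
      exact h1 a'
    exact (hP.mem_or_mem h2).resolve_right fun h4 => hP.ne_top (Ideal.eq_top_of_isUnit_mem _ h4
        (IsLocalization.map_units Ah (⟨h ^ n, n, rfl⟩ : Submonoid.powers h)))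

end away

end K672.EtaleInert
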