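import Groth.Agent.InvTh.K672.EtaleInert
import Mathlib.RingTheory.Ideal.Operations
import Mathlib.RingTheory.Localization.Ideal

/-!
# Étaleness on invariants, III: spreading out to an invariant neighbourhood
-/

set_option autoImplicit false
set_option linter.all false
universe u

open TensorProduct

namespace K672.EtaleSpread

/-- prime avoidance with norms -/
theorem exists_invariant_mem {G A : Type*} [Group G] [Finite G] [CommRing A] [MulSemiringAction G A]
    (J x : Ideal A) [x.IsPrime] (H : ∀ k : G, ∃ j ∈ J, k • j ∉ x) :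
    ∃ h ∈ J, (∀ g : G, g • h = h) ∧ h ∉ x := by
  classical
  cases nonempty_fintype G
  let y : G → Ideal A := fun k => x.comap (MulSemiringAction.toRingHom G A k)
  have hy : ∀ k, (y k).IsPrime := fun k => Ideal.comap_isPrime _ _
  obtain ⟨f, hfJ, hf⟩ : ∃ f ∈ J, ∀ k, f ∉ y k := by
    by_contra hcon
    push Not at hcon
    have h1 : (J : Set A) ⊆ ⋃ k ∈ (↑(Finset.univ : Finset G) : Set G), (y k : Set A) := by
      intro f hf
      obtain ⟨k, hk⟩ := hcon f hf
      simp only [Set.mem_iUnion]
      exact ⟨k, by simp, hk⟩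
    obtain ⟨k, -, hk⟩ := (Ideal.subset_union_prime 1 1 fun k _ _ _ => hy k).1 h1
    obtain ⟨j, hj, hjx⟩ := H k
    exact hjx (hk hj)
  refine ⟨∏ k : G, k • f, ?_, fun g => ?_, fun hmem => ?_⟩
  · rw [← Finset.mul_prod_erase Finset.univ (fun k : G => k • f) (Finset.mem_univ 1)]
    simp only [one_smul]
    exact J.mul_mem_right _ hfJ
  · rw [Finset.smul_prod']
    simp only [← mul_smul]
    exact Fintype.prod_equiv (Equiv.mulLeft g) _ _ fun _ => rfl
  · obtain ⟨k, -, hk⟩ := (Ideal.IsPrime.prod_mem_iff (p := x)).1 hmem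
    exact hf k hk

/-- étaleness at a point spreads out to an invariant neighbourhood -/
theorem exists_invariant_etale {G B A : Type u} [Group G] [Finite G] [CommRing A] [CommRing B]
    [MulSemiringAction G A] [MulSemiringAction G B] [Algebra B A]
    (hG : ∀ (g : G) (b : B), algebraMap B A (g • b) = g • algebraMap B A b)
    [Algebra.FinitePresentation B A] (x : Ideal A) [x.IsPrime] (hx : Algebra.IsEtaleAt B x) :
    ∃ h : A, (∀ g : G, g • h = h) ∧ h ∉ x ∧
      (PrimeSpectrum.basicOpen h : Set (PrimeSpectrum A)) ⊆ Algebra.etaleLocus B A := by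
  classical
  obtain ⟨f₀, hf₀, het⟩ := Algebra.exists_etale_of_isEtaleAt (R := B) x
  have h1 : ∀ g : G, (PrimeSpectrum.basicOpen (g • f₀) : Set (PrimeSpectrum A)) ⊆
      Algebra.etaleLocus B A := by
    intro g
    rw [Algebra.basicOpen_subset_etaleLocus_iff_etale, ← RingHom.etale_algebraMap]
    let σ : A ≃+* A := MulSemiringAction.toRingEquiv G A g
    let τ : B ≃+* B := MulSemiringAction.toRingEquiv G B g
    let e : Localization.Away f₀ ≃+* Localization.Away (g • f₀) :=
      IsLocalization.ringEquivOfRingEquiv (M := Submonoid.powers f₀)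
        (T := Submonoid.powers (g • f₀)) _ _ σ (by
          rw [Submonoid.map_powers]
          rfl)
    have h2 : (algebraMap B (Localization.Away f₀)).Etale := RingHom.etale_algebraMap.2 het
    have h3 := RingHom.Etale.respectsIso.1 _ e (RingHom.Etale.respectsIso.2 _ τ.symm h2)
    convert h3 using 1
    ext b
    obtain ⟨b, rfl⟩ := τ.surjective b
    change _ = e (algebraMap B (Localization.Away f₀) (τ.symm (τ b)))
    rw [RingEquiv.symm_apply_apply, IsScalarTower.algebraMap_apply B A (Localization.Away f₀),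
      IsScalarTower.algebraMap_apply B A (Localization.Away (g • f₀))]
    simp only [e]
    rw [IsLocalization.ringEquivOfRingEquiv_eq]
    congr 1
    exact hG g b
  obtain ⟨h, hJ, hinv, hhx⟩ := exists_invariant_mem (G := G)
    (Ideal.span (Set.range fun g : G => g • f₀)) x (fun k =>
      ⟨k⁻¹ • f₀, Ideal.subset_span ⟨k⁻¹, rfl⟩, by rwa [smul_inv_smul]⟩)
  refine ⟨h, hinv, hhx, fun P hP => ?_⟩
  by_contra hcon
  apply hP
  refine (Ideal.span_le.2 ?_ : Ideal.span (Set.range fun g : G => g • f₀) ≤ P.asIdeal) hJ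
  rintro _ ⟨g, rfl⟩
  by_contra hg
  exact hcon (h1 g hg)

section main

variable {G B A : Type u} [Group G] [Finite G] [CommRing A] [CommRing B]
  [MulSemiringAction G A] [MulSemiringAction G B] [Algebra B A]

lemma inertia_conj (hG : ∀ (g : G) (b : B), algebraMap B A (g • b) = g • algebraMap B A b)
    (x : Ideal A) (hin : x.inertia G = (x.comap (algebraMap B A)).inertia G) (k g : G)
    (h : ∀ b : B, k • (g • algebraMap B A b - algebraMap B A b) ∈ x) (a : A) :
    k • (g • a - a) ∈ x := by
  have h1 : k * g * k⁻¹ ∈ (x.comap (algebraMap B A)).inertia G := by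
    intro b
    change algebraMap B A ((k * g * k⁻¹) • b - b) ∈ x
    have := h (k⁻¹ • b)
    rw [smul_sub, hG, smul_inv_smul] at this
    rw [map_sub, hG, mul_smul, mul_smul]
    exact this
  rw [← hin] at h1
  have := h1 (k • a)
  rw [mul_smul, mul_smul, inv_smul_smul] at this
  rw [smul_sub]
  exact this

/-- the inertia condition spreads out to an invariant neighbourhood -/
theorem exists_invariant_stab
    (hG : ∀ (g : G) (b : B), algebraMap B A (g • b) = g • algebraMap B A b)
    [Algebra.FinitePresentation B A] (x : Ideal A) [x.IsPrime] (hx : Algebra.IsEtaleAt B x)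
    (hin : x.inertia G = (x.comap (algebraMap B A)).inertia G) :
    ∃ h : A, (∀ g : G, g • h = h) ∧ h ∉ x ∧
      (PrimeSpectrum.basicOpen h : Set (PrimeSpectrum A)) ⊆ Algebra.etaleLocus B A ∧
      ∀ (P : Ideal A) [P.IsPrime] (g : G), h ∉ P →
        (∀ b, g • algebraMap B A b - algebraMap B A b ∈ P) → ∀ a : A, g • a - a ∈ P := by
  classical
  cases nonempty_fintype G
  obtain ⟨h, hinv, hhx, hU⟩ := exists_invariant_etale hG x hx
  let A₁ := Localization.Away h
  letI : MulSemiringAction G A₁ := EtaleInert.locAction h hinv A₁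
  have hact : ∀ (g : G) (a : A), g • algebraMap A A₁ a = algebraMap A A₁ (g • a) :=
    EtaleInert.locAct_algebraMap h hinv A₁
  have hBA₁ : ∀ b, algebraMap B A₁ b = algebraMap A A₁ (algebraMap B A b) := fun b =>
    IsScalarTower.algebraMap_apply B A A₁ b
  haveI : Algebra.Etale B A₁ := Algebra.basicOpen_subset_etaleLocus_iff_etale.1 hU
  have hex : ∀ g : G, ∃ e : A₁, (∀ a, (g • a - a) * e ∈
        Ideal.span (Set.range fun b : B => g • algebraMap B A₁ b - algebraMap B A₁ b)) ∧
      1 - e ∈ Ideal.span (Set.range fun a : A₁ => g • a - a) := fun g =>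
    EtaleInert.exists_elem_end (B := B) (A := A₁) (MulSemiringAction.toRingHom G A₁ g)
  choose e he1 he2 using hex
  let I₁ : G → Ideal A₁ := fun g =>
    Ideal.span (Set.range fun b : B => g • algebraMap B A₁ b - algebraMap B A₁ b)
  let J₁ : G → Ideal A₁ := fun g => I₁ g ⊔ Ideal.span {e g}
  let J : G → Ideal A := fun g => (J₁ g).comap (algebraMap A A₁)
  -- primes of `A` not containing `h`
  have hloc : ∀ P : Ideal A, P.IsPrime → h ∉ P → ∃ Q : Ideal A₁, Q.IsPrime ∧
      Q.comap (algebraMap A A₁) = P := by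
    intro P hP hhP
    have hd : Disjoint (Submonoid.powers h : Set A) (P : Set A) := by
      rw [Set.disjoint_left]
      rintro _ ⟨n, rfl⟩ hn
      exact hhP (hP.mem_of_pow_mem n hn)
    exact ⟨P.map (algebraMap A A₁), IsLocalization.isPrime_of_isPrime_disjoint _ _ P hP hd,
      IsLocalization.comap_map_of_isPrime_disjoint _ _ hP hd⟩
  have hI : ∀ (Q : Ideal A₁) (g : G), (∀ b : B, g • algebraMap B A b - algebraMap B A b ∈
      Q.comap (algebraMap A A₁)) → I₁ g ≤ Q := by
    intro Q g hQ
    rw [Ideal.span_le]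
    rintro _ ⟨b, rfl⟩
    have := hQ b
    rw [Ideal.mem_comap, map_sub, ← hact, ← hBA₁] at this
    exact this
  have key : ∀ g k : G, ∃ j ∈ J g, k • j ∉ x := by
    intro g k
    by_contra hcon
    push Not at hcon
    have hyk : (x.comap (MulSemiringAction.toRingHom G A k)).IsPrime := Ideal.comap_isPrime _ _
    obtain ⟨Q, hQ, hQy⟩ := hloc (x.comap (MulSemiringAction.toRingHom G A k)) hyk (by
      rw [Ideal.mem_comap, MulSemiringAction.toRingHom_apply, hinv]
      exact hhx)
    have hJQ : J₁ g ≤ Q := by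
      rw [← IsLocalization.map_comap (Submonoid.powers h) A₁ (J₁ g), Ideal.map_le_iff_le_comap, hQy]
      exact hcon
    have hα : ∀ a : A, g • a - a ∈ Q.comap (algebraMap A A₁) := by
      intro a
      rw [hQy, Ideal.mem_comap, MulSemiringAction.toRingHom_apply]
      refine inertia_conj hG x hin k g (fun b => ?_) a
      have h3 : g • algebraMap B A b - algebraMap B A b ∈ Q.comap (algebraMap A A₁) := by
        rw [Ideal.mem_comap, map_sub, ← hact, ← hBA₁]
        exact hJQ (Ideal.mem_sup_left (Ideal.subset_span ⟨b, rfl⟩))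
      rw [hQy] at h3
      exact h3
    have h4 : 1 - e g ∈ Q := by
      refine (Ideal.span_le.2 ?_ : Ideal.span (Set.range fun a : A₁ => g • a - a) ≤ Q) (he2 g)
      rintro _ ⟨a, rfl⟩
      obtain ⟨⟨a', ⟨_, n, rfl⟩⟩, hn⟩ := IsLocalization.surj (Submonoid.powers h) a
      simp only at hn
      have h5 : (g • a - a) * algebraMap A A₁ (h ^ n) ∈ Q := by
        have h6 : (g • a - a) * algebraMap A A₁ (h ^ n) = algebraMap A A₁ (g • a' - a') := by
          rw [sub_mul, hn, map_sub, ← hact, ← hn, smul_mul', hact, smul_pow', hinv]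
        rw [h6]
        exact hα a'
      exact (hQ.mem_or_mem h5).resolve_right fun h7 => hQ.ne_top (Ideal.eq_top_of_isUnit_mem _ h7
        (IsLocalization.map_units A₁ (⟨h ^ n, n, rfl⟩ : Submonoid.powers h)))
    have h5 : e g ∈ Q := hJQ (Ideal.mem_sup_right (Ideal.subset_span rfl))
    apply hQ.ne_top
    rw [Ideal.eq_top_iff_one]
    have := Q.add_mem h4 h5
    simpa using this
  obtain ⟨h₂, hh₂J, hinv₂, hh₂x⟩ := exists_invariant_mem (G := G) (∏ g, J g) x (fun k => by
    have hyk : (x.comap (MulSemiringAction.toRingHom G A k)).IsPrime := Ideal.comap_isPrime _ _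
    by_contra hcon
    push Not at hcon
    have h1 : ∏ g, J g ≤ x.comap (MulSemiringAction.toRingHom G A k) := hcon
    obtain ⟨g, -, hg⟩ := (Ideal.IsPrime.prod_le hyk).1 h1
    obtain ⟨j, hj, hjx⟩ := key g k
    exact hjx (hg hj))
  refine ⟨h * h₂, fun g => by rw [smul_mul', hinv, hinv₂], fun hmem => ?_, fun P hP => hU ?_, ?_⟩
  · exact ((‹x.IsPrime›).mem_or_mem hmem).elim hhx hh₂x
  · intro hmem
    exact hP (P.asIdeal.mul_mem_right _ hmem)
  · intro P hP g hhP hb a
    have hhP1 : h ∉ P := fun hm => hhP (P.mul_mem_right _ hm)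
    have hhP2 : h₂ ∉ P := fun hm => hhP (P.mul_mem_left _ hm)
    obtain ⟨Q, hQ, rfl⟩ := hloc P hP hhP1
    have hIQ := hI Q g hb
    have h3 : h₂ ∈ J g := (Ideal.prod_le_inf.trans (Finset.inf_le (Finset.mem_univ g))) hh₂J
    have h4 : e g ∉ Q := by
      intro h5
      apply hhP2
      refine (sup_le hIQ ?_ : I₁ g ⊔ Ideal.span {e g} ≤ Q) h3
      rw [Ideal.span_le, Set.singleton_subset_iff]
      exact h5
    rw [Ideal.mem_comap, map_sub, ← hact]
    exact (hQ.mem_or_mem (hIQ (he1 g (algebraMap A A₁ a)))).resolve_right h4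

end main

end K672.EtaleSpread
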