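import Groth.Agent.InvTh.K672.SplitDepth
import Groth.Agent.CalgA.RegAB
import Mathlib.RingTheory.IntegralClosure.GoingDown
import Mathlib.RingTheory.Flat.Localization
import Mathlib.RingTheory.Flat.EquationalCriterion
import Mathlib.RingTheory.RegularLocalRing.Defs

/-!
# A Cohen–Macaulay domain finite over a regular normal domain is flat
-/

set_option autoImplicit false
set_option linter.all false
universe u

namespace K672.FinFlat

variable {P R : Type u} [CommRing P] [IsDomain P] [IsIntegrallyClosed P] [IsRegularRing P]
  [CommRing R] [IsDomain R] [Algebra P R] [FaithfulSMul P R] [Module.Finite P R]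

theorem height_le (p : Ideal P) [p.IsPrime] (q : Ideal R) [q.IsPrime]
    (h : q.comap (algebraMap P R) = p) : p.height ≤ q.height := by
  have hRN : IsNoetherianRing R := IsNoetherianRing.of_finite P R
  have hlo : q.LiesOver p := ⟨h.symm⟩
  rw [Ideal.height_eq_height_add_of_liesOver_of_hasGoingDown p q]
  exact le_self_add

theorem free_localized (hR : LocCoh.IsCohenMacaulayRing R) (p : Ideal P) [p.IsPrime] :
    Module.Free (Localization.AtPrime p) (LocalizedModule p.primeCompl R) := by
  have hRN : IsNoetherianRing R := IsNoetherianRing.of_finite P R
  have hreg : IsRegularLocalRing (Localization.AtPrime p) := inferInstance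
  have hPN : IsNoetherianRing (Localization.AtPrime p) :=
    IsLocalization.isNoetherianRing p.primeCompl _ inferInstance
  have hnt : Nontrivial (LocalizedModule p.primeCompl R) := by
    refine ⟨⟨LocalizedModule.mk 1 1, 0, fun h => ?_⟩⟩
    rw [← LocalizedModule.zero_mk (1 : p.primeCompl), LocalizedModule.mk_eq] at h
    obtain ⟨s, hs⟩ := h
    simp only [one_smul, smul_zero] at hs
    have h1 : algebraMap P R (s : P) = 0 := by
      have h2 : (s : P) • (1 : R) = 0 := hs
      rwa [Algebra.smul_def, mul_one] at h2
    have h3 : (s : P) = 0 := (FaithfulSMul.algebraMap_injective P R) (by rw [h1, map_zero])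
    exact s.2 (by rw [h3]; exact p.zero_mem)
  have key : p.height ≤
      LocCoh.depth (Localization.AtPrime p) (LocalizedModule p.primeCompl R) := by
    obtain ⟨n, hn⟩ : ∃ n : ℕ, p.height = n :=
      ENat.ne_top_iff_exists.1 (Ideal.height_ne_top (I := p) (Ideal.IsPrime.ne_top inferInstance))
        |>.imp fun _ h => h.symm
    rw [hn]
    refine SplitDepth.natCast_le p n fun q hq hqp => ?_
    have h1 := (hR.isCohenMacaulayLocalRing_localization q).supportDim_eq_depth
    rw [Module.supportDim_self_eq_ringKrullDim,
      IsLocalization.AtPrime.ringKrullDim_eq_height q (Localization.AtPrime q),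
      ← K170.DepthGen.depth_localizedModule_self] at h1
    have h2 : q.height = LocCoh.depth (Localization.AtPrime q) (LocalizedModule q.primeCompl R) := by
      exact_mod_cast h1
    rw [← hn, ← h2]
    exact height_le p q hqp
  have h2 := Groth.Agent.Localalg.Depth2.depth_le_supportDim (R := Localization.AtPrime p)
    (LocalizedModule p.primeCompl R)
  have h3 := SplitDepth.supportDim_le p (LocalizedModule p.primeCompl R)
  have h4 : ((p.height : ℕ∞) : WithBot ℕ∞) ≤
      ((LocCoh.depth (Localization.AtPrime p) (LocalizedModule p.primeCompl R) : ℕ∞) :
        WithBot ℕ∞) := by exact_mod_cast key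
  apply Groth.Agent.CalgA.RegAB.free_of_depth_eq
  rw [IsLocalization.AtPrime.ringKrullDim_eq_height p (Localization.AtPrime p)]
  exact le_antisymm (h2.trans h3) h4

theorem projective (hR : LocCoh.IsCohenMacaulayRing R) : Module.Projective P R := by
  have hflat : Module.Flat P R := by
    apply Module.flat_of_localized_maximal
    intro p hp
    have := free_localized hR p
    have h1 : Module.Flat (Localization.AtPrime p) (LocalizedModule p.primeCompl R) := inferInstance
    have h2 : Module.Flat P (Localization.AtPrime p) :=
      IsLocalization.flat (Localization.AtPrime p) p.primeCompl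
    exact Module.Flat.trans P (Localization.AtPrime p) (LocalizedModule p.primeCompl R)
  have hfp : Module.FinitePresentation P R := Module.finitePresentation_of_finite P R
  exact Module.Flat.projective_of_finitePresentation

end K672.FinFlat
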