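import Groth.Agent.LoccohA.GorBC
import Groth.Agent.Models2.Frobenius
import Mathlib.RingTheory.Finiteness.Projective

/-!
# A finite projective algebra over a Gorenstein ring with a generating form is Gorenstein
-/

set_option autoImplicit false
set_option linter.all false
universe u

open TensorProduct

namespace K672.FormGor

variable {P A : Type u} [CommRing P] [CommRing A] [Algebra P A] [Module.Finite P A]
  [Module.Projective P A]

/-- the form on a base change -/
noncomputable def bc (κ : Type u) [Field κ] [Algebra P κ] (τ : A →ₗ[P] P) : κ ⊗[P] A →ₗ[κ] κ :=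
  (TensorProduct.AlgebraTensorModule.rid P κ κ).toLinearMap ∘ₗ LinearMap.baseChange κ τ

theorem bc_tmul (κ : Type u) [Field κ] [Algebra P κ] (τ : A →ₗ[P] P) (c : κ) (a : A) :
    bc κ τ (c ⊗ₜ a) = c * algebraMap P κ (τ a) := by
  simp [bc, Algebra.smul_def, mul_comm]

theorem isFrob (κ : Type u) [Field κ] [Algebra P κ] (τ : A →ₗ[P] P)
    (hτ : ∀ f : A →ₗ[P] P, ∃ a, ∀ b, f b = τ (a * b)) :
    Groth.Agent.Models2.Frobenius.IsFrob (bc κ τ) := by
  obtain ⟨m, fu, g, -, -, hfg⟩ := Module.Finite.exists_comp_eq_id_of_projective P A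
  let u : Fin m → A := fun i => fu (Pi.single i 1)
  let f : Fin m → (A →ₗ[P] P) := fun i => (LinearMap.proj i) ∘ₗ g
  have hdual : ∀ r : A, r = ∑ i, f i r • u i := by
    intro r
    have h1 := LinearMap.congr_fun hfg r
    rw [LinearMap.comp_apply, LinearMap.id_apply] at h1
    conv_lhs => rw [← h1, pi_eq_sum_univ' (g r), map_sum]
    refine Finset.sum_congr rfl fun i _ => ?_
    rw [map_smul]
    rfl
  choose a ha using fun i => hτ (f i)
  refine Groth.Agent.Models2.Frobenius.isFrob_of_forall_exists fun φ => ?_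
  refine ⟨∑ i, φ (1 ⊗ₜ u i) ⊗ₜ a i, fun x => ?_⟩
  induction x with
  | zero => simp
  | tmul c b =>
    rw [Finset.sum_mul, map_sum]
    have h1 : φ (c ⊗ₜ b) = ∑ i, c * (algebraMap P κ (f i b) * φ (1 ⊗ₜ u i)) := by
      conv_lhs => rw [hdual b, TensorProduct.tmul_sum, map_sum]
      refine Finset.sum_congr rfl fun i _ => ?_
      have h2 : (c ⊗ₜ[P] (f i b • u i) : κ ⊗[P] A) =
          (c * algebraMap P κ (f i b)) • ((1 : κ) ⊗ₜ[P] u i) := by
        rw [← TensorProduct.smul_tmul, TensorProduct.smul_tmul', smul_eq_mul, mul_one,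
          Algebra.smul_def, mul_comm]
      rw [h2, map_smul, smul_eq_mul, mul_assoc]
    rw [h1]
    refine Finset.sum_congr rfl fun i _ => ?_
    rw [Algebra.TensorProduct.tmul_mul_tmul, bc_tmul, ← ha]
    ring
  | add x y hx hy => rw [map_add, hx, hy, mul_add, map_add]

theorem isGorensteinRing [IsNoetherianRing P] (hP : LocCoh.IsGorensteinRing P) (τ : A →ₗ[P] P)
    (hτ : ∀ f : A →ₗ[P] P, ∃ a, ∀ b, f b = τ (a * b)) : LocCoh.IsGorensteinRing A := by
  have hN : IsNoetherianRing A := IsNoetherianRing.of_finite P A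
  refine Groth.Agent.LoccohA.GorBC.isGorensteinRing_of_flat_of_fibres hP fun p hp => ?_
  have hfin : Module.Finite p.ResidueField (p.Fiber A) := inferInstance
  have hart : IsArtinianRing (p.Fiber A) := IsArtinianRing.of_finite p.ResidueField _
  have hl := isFrob (A := A) p.ResidueField τ hτ
  have := hl.injective
  exact Groth.Agent.Models2.Frobenius.isGorensteinRing_of_injective _

end K672.FormGor
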