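import Mathlib.RingTheory.IntegralClosure.IntegrallyClosed
import Mathlib.RingTheory.Ideal.Quotient.Operations
import Mathlib.Tactic

/-!
# Subrings of finite products of normal domains

* `Sat A`: division-saturation of a subring `A` of `∏ D i`.
* `main`: a saturated subring of a finite product of integrally closed domains is a finite product of integrally
  closed domains.
* `sat_eqLocus`: the subring on which a family of homomorphisms preserving non-zero-divisors agree is saturated.
-/

set_option autoImplicit false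

namespace K672.NormProd

universe u

variable {ι : Type u} [Fintype ι] {D : ι → Type u} [∀ i, CommRing (D i)] [∀ i, IsDomain (D i)]

/-- If `α = β γ` with `α, β ∈ A` and `γ` supported on the support of `β` then `γ ∈ A`. -/
def Sat (A : Subring (Π i, D i)) : Prop :=
  ∀ α β γ : Π i, D i, α ∈ A → β ∈ A → α = β * γ → (∀ i, β i = 0 → γ i = 0) → γ ∈ A

open scoped Classical in
/-- The indicator of the support. -/
noncomputable def sup (x : Π i, D i) : Π i, D i := fun i => if x i = 0 then 0 else 1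

omit [Fintype ι] [∀ i, IsDomain (D i)] in
theorem sup_of_eq {x : Π i, D i} {i : ι} (h : x i = 0) : sup x i = 0 := if_pos h

omit [Fintype ι] [∀ i, IsDomain (D i)] in
theorem sup_of_ne {x : Π i, D i} {i : ι} (h : x i ≠ 0) : sup x i = 1 := if_neg h

omit [Fintype ι] [∀ i, IsDomain (D i)] in
theorem mul_sup (x : Π i, D i) : x * sup x = x := by
  funext i
  rw [Pi.mul_apply]
  by_cases h : x i = 0
  · rw [h, zero_mul]
  · rw [sup_of_ne h, mul_one]

omit [Fintype ι] [∀ i, IsDomain (D i)] in
theorem Sat.sup_mem {A : Subring (Π i, D i)} (hA : Sat A) {x : Π i, D i} (hx : x ∈ A) :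
    sup x ∈ A :=
  hA x x (sup x) hx hx (mul_sup x).symm fun _ h => sup_of_eq h

theorem exists_eq_mul {E D : Type*} [CommRing E] [IsDomain E] [CommRing D] [IsDomain D]
    [IsIntegrallyClosed D] (φ : E →+* D) (hφ : Function.Injective φ) (a b : E) (hb : b ≠ 0)
    (h : IsIntegral E (algebraMap E (FractionRing E) a / algebraMap E (FractionRing E) b)) :
    ∃ γ, φ a = φ b * γ := by
  have hb0 : algebraMap E (FractionRing E) b ≠ 0 := by
    rwa [Ne, FaithfulSMul.algebraMap_eq_zero_iff]
  let Φ : FractionRing E →+* FractionRing D := IsFractionRing.map hφ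
  have hΦ : ∀ z, Φ (algebraMap _ _ z) = algebraMap _ _ (φ z) := fun z =>
    IsLocalization.map_eq _ _
  have hint : IsIntegral D (Φ (algebraMap E (FractionRing E) a / algebraMap E (FractionRing E) b)) :=
    h.map_of_comp_eq φ Φ (RingHom.ext fun z => (hΦ z).symm)
  obtain ⟨γ, hγ⟩ := (isIntegrallyClosed_iff (FractionRing D)).1 inferInstance hint
  refine ⟨γ, ?_⟩
  apply IsFractionRing.injective D (FractionRing D)
  rw [map_mul, hγ, ← hΦ, ← hΦ, ← map_mul, mul_div_cancel₀ _ hb0]

theorem isIntegrallyClosed_of_dvd {E : Type*} [CommRing E] [IsDomain E]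
    (h : ∀ a b : E, b ≠ 0 →
      IsIntegral E (algebraMap E (FractionRing E) a / algebraMap E (FractionRing E) b) → b ∣ a) :
    IsIntegrallyClosed E := by
  rw [isIntegrallyClosed_iff (FractionRing E)]
  intro x hx
  obtain ⟨a, b, hb, rfl⟩ := IsFractionRing.div_surjective (A := E) x
  have hb1 : b ≠ 0 := nonZeroDivisors.ne_zero hb
  have hb0 : algebraMap E (FractionRing E) b ≠ 0 := by
    rwa [Ne, FaithfulSMul.algebraMap_eq_zero_iff]
  obtain ⟨c, rfl⟩ := h a b hb1 hx
  refine ⟨c, ?_⟩
  rw [map_mul, mul_div_cancel_left₀ _ hb0]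

theorem main [∀ i, IsIntegrallyClosed (D i)] (A : Subring (Π i, D i)) (hA : Sat A) :
    ∃ (κ : Type u) (_ : Fintype κ) (E : κ → Type u) (_ : ∀ j, CommRing (E j)) (_ : ∀ j, IsDomain (E j))
      (_ : ∀ j, IsIntegrallyClosed (E j)), Nonempty (A ≃+* Π j, E j) := by
  classical
  let ev : ∀ i, A →+* D i := fun i => (Pi.evalRingHom D i).comp A.subtype
  have hev : ∀ i (x : A), ev i x = (x : Π i, D i) i := fun i x => rfl
  let ker : ι → Ideal A := fun i => RingHom.ker (ev i)
  have hker : ∀ i (x : A), x ∈ ker i ↔ (x : Π i, D i) i = 0 := fun i x => Iff.rfl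
  have hprime : ∀ i, (ker i).IsPrime := fun i => RingHom.ker_isPrime (ev i)
  let κ : Type u := Set.range ker
  have : Fintype κ := Fintype.ofFinite _
  let f : κ → Ideal A := fun p => p.1
  have hfprime : ∀ p : κ, (f p).IsPrime := by
    rintro ⟨_, i, rfl⟩
    exact hprime i
  have hcop0 : ∀ i j : ι, ∀ x : A, (x : Π i, D i) i = 0 → (x : Π i, D i) j ≠ 0 →
      IsCoprime (ker i) (ker j) := by
    intro i j x hi hj
    rw [Ideal.isCoprime_iff_exists]
    refine ⟨⟨sup x.1, hA.sup_mem x.2⟩, sup_of_eq hi, 1 - ⟨sup x.1, hA.sup_mem x.2⟩, ?_, by ring⟩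
    rw [hker]
    change (1 - sup x.1) j = 0
    rw [Pi.sub_apply, sup_of_ne hj, Pi.one_apply, sub_self]
  have hcop : Pairwise (Function.onFun IsCoprime f) := by
    rintro ⟨_, i, rfl⟩ ⟨_, j, rfl⟩ hij
    change IsCoprime (ker i) (ker j)
    have hne : ker i ≠ ker j := fun h => hij (Subtype.ext h)
    by_cases h : ∃ x : A, (x : Π i, D i) i = 0 ∧ (x : Π i, D i) j ≠ 0
    · obtain ⟨x, hi, hj⟩ := h
      exact hcop0 i j x hi hj
    · push Not at h
      have h2 : ∃ x : A, (x : Π i, D i) j = 0 ∧ (x : Π i, D i) i ≠ 0 := by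
        by_contra h3
        push Not at h3
        exact hne (le_antisymm (fun x hx => h x hx) (fun x hx => h3 x hx))
      obtain ⟨x, hj, hi⟩ := h2
      exact (hcop0 j i x hj hi).symm
  have hinf : (⨅ p, f p) = ⊥ := by
    rw [eq_bot_iff]
    intro x hx
    rw [Ideal.mem_iInf] at hx
    rw [Ideal.mem_bot]
    apply Subtype.ext
    funext i
    exact hx ⟨ker i, i, rfl⟩
  let e0 : A ≃+* Π p : κ, A ⧸ f p :=
    ((RingEquiv.quotientBot A).symm.trans (Ideal.quotEquivOfEq hinf.symm)).trans
      (Ideal.quotientInfRingEquivPiQuotient f hcop)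
  have hdom : ∀ p : κ, IsDomain (A ⧸ f p) := fun p => Ideal.Quotient.isDomain (f p)
  refine ⟨κ, inferInstance, fun p => A ⧸ f p, inferInstance, hdom, ?_, ⟨e0⟩⟩
  intro p
  -- the idempotent
  obtain ⟨e, he⟩ := Ideal.pi_quotient_surjective hcop
    (fun q => if q = p then 1 else 0)
  have he1 : Ideal.Quotient.mk (f p) e = 1 := by rw [he p, if_pos rfl]
  have he0 : ∀ i, ker i ≠ f p → (e : Π i, D i) i = 0 := by
    intro i hi
    have h1 := he ⟨ker i, i, rfl⟩
    rw [if_neg (fun h => hi (congrArg Subtype.val h))] at h1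
    exact Ideal.Quotient.eq_zero_iff_mem.1 h1
  have := hdom p
  refine isIntegrallyClosed_of_dvd ?_
  intro a b hb hint
  obtain ⟨α₀, rfl⟩ := Ideal.Quotient.mk_surjective a
  obtain ⟨β₀, rfl⟩ := Ideal.Quotient.mk_surjective b
  let α : A := α₀ * e
  let β : A := β₀ * e
  have hα : Ideal.Quotient.mk (f p) α = Ideal.Quotient.mk (f p) α₀ := by
    simp only [α, map_mul, he1, mul_one]
  have hβ : Ideal.Quotient.mk (f p) β = Ideal.Quotient.mk (f p) β₀ := by
    simp only [β, map_mul, he1, mul_one]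
  rw [← hα, ← hβ] at hint
  rw [← hβ] at hb
  rw [← hα, ← hβ]
  have hγ : ∀ i, ∃ γ : D i, (ker i = f p → (α : Π i, D i) i = (β : Π i, D i) i * γ) ∧
      (ker i ≠ f p → γ = 0) := by
    intro i
    by_cases hi : ker i = f p
    · let φ : A ⧸ f p →+* D i := Ideal.Quotient.lift (f p) (ev i) (by
        intro a ha
        rw [← hi] at ha
        exact ha)
      have hφ : Function.Injective φ := by
        apply RingHom.lift_injective_of_ker_le_ideal
        rw [← hi]
      obtain ⟨γ, hγ⟩ := exists_eq_mul φ hφ _ _ hb hint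
      exact ⟨γ, fun _ => hγ, fun h => absurd hi h⟩
    · exact ⟨0, fun h => absurd h hi, fun _ => rfl⟩
  choose γ hγ1 hγ2 using hγ
  have hγA : γ ∈ A := by
    refine hA α β γ α.2 β.2 ?_ ?_
    · funext i
      by_cases hi : ker i = f p
      · exact hγ1 i hi
      · rw [Pi.mul_apply, hγ2 i hi, mul_zero]
        change (α₀ : Π i, D i) i * (e : Π i, D i) i = 0
        rw [he0 i hi, mul_zero]
    · intro i hβi
      by_cases hi : ker i = f p
      · exfalso
        apply hb
        rw [Ideal.Quotient.eq_zero_iff_mem, ← hi]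
        exact hβi
      · exact hγ2 i hi
  refine ⟨Ideal.Quotient.mk (f p) ⟨γ, hγA⟩, ?_⟩
  rw [← map_mul, ← sub_eq_zero, ← map_sub, Ideal.Quotient.eq_zero_iff_mem]
  obtain ⟨i, hi⟩ := p.2
  change _ ∈ p.1
  rw [← hi]
  change ((α : Π i, D i) - (β : Π i, D i) * γ) i = 0
  rw [Pi.sub_apply, Pi.mul_apply, hγ1 i hi, sub_self]

omit [Fintype ι] in
/-- The locus where a family of homomorphisms preserving non-zero-divisors agree is saturated. -/
theorem sat_eqLocus {R : Type*} [CommRing R] (F : Set ((Π i, D i) →+* R))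
    (hF : ∀ f ∈ F, ∀ s ∈ nonZeroDivisors (Π i, D i), f s ∈ nonZeroDivisors R)
    (A : Subring (Π i, D i)) (hA : ∀ a, a ∈ A ↔ ∀ f ∈ F, ∀ f' ∈ F, f a = f' a) : Sat A := by
  have hnzd : ∀ β : Π i, D i, β + 1 - sup β ∈ nonZeroDivisors (Π i, D i) := by
    intro β
    rw [mem_nonZeroDivisors_iff_right]
    intro z hz
    funext i
    have h1 := congrFun hz i
    rw [Pi.mul_apply] at h1
    refine (mul_eq_zero.1 h1).resolve_right ?_
    rw [Pi.sub_apply, Pi.add_apply, Pi.one_apply]
    by_cases h : β i = 0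
    · rw [sup_of_eq h, h]; simp
    · rw [sup_of_ne h]; simpa using h
  have hcancel : ∀ f ∈ F, ∀ (β : Π i, D i) (z : R), f (β + 1 - sup β) * z = 0 → z = 0 := by
    intro f hf β z hz
    exact (mem_nonZeroDivisors_iff_right.1 (hF f hf _ (hnzd β))) z (by rw [mul_comm]; exact hz)
  have hsup : ∀ x ∈ A, ∀ f ∈ F, ∀ f' ∈ F, f (sup x) = f (sup x) * f' (sup x) := by
    intro x hx f hf f' hf'
    have hxx : f x = f' x := (hA x).1 hx f hf f' hf'
    have hidem : sup x * sup x = sup x := by
      funext i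
      rw [Pi.mul_apply]
      by_cases h : x i = 0
      · rw [sup_of_eq h, mul_zero]
      · rw [sup_of_ne h, mul_one]
    have h1 : f (sup x) * f (x + 1 - sup x) = f x := by
      rw [← map_mul]
      congr 1
      have : sup x * (x + 1 - sup x) = x * sup x + sup x - sup x * sup x := by ring
      rw [this, mul_sup, hidem]; ring
    have h2 : f x * (1 - f' (sup x)) = 0 := by
      have h3 : f' x * f' (sup x) = f' x := by rw [← map_mul, mul_sup]
      rw [hxx, mul_sub, mul_one, h3, sub_self]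
    have h4 : f (sup x) * (1 - f' (sup x)) = 0 := by
      apply hcancel f hf x
      calc f (x + 1 - sup x) * (f (sup x) * (1 - f' (sup x)))
          = (f (sup x) * f (x + 1 - sup x)) * (1 - f' (sup x)) := by ring
        _ = 0 := by rw [h1, h2]
    rw [mul_sub, mul_one, sub_eq_zero] at h4
    exact h4
  have hsup' : ∀ x ∈ A, ∀ f ∈ F, ∀ f' ∈ F, f (sup x) = f' (sup x) := by
    intro x hx f hf f' hf'
    rw [hsup x hx f hf f' hf', mul_comm, ← hsup x hx f' hf' f hf]
  intro α β γ hα hβ hαβ hγ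
  rw [hA]
  intro f hf f' hf'
  have hγs : γ * sup β = γ := by
    funext i
    rw [Pi.mul_apply]
    by_cases h : β i = 0
    · rw [hγ i h, zero_mul]
    · rw [sup_of_ne h, mul_one]
  have h1 : f β * (f γ - f' γ) = 0 := by
    have h2 : f β * f γ = f α := by rw [← map_mul, hαβ]
    have h3 : f β * f' γ = f α := by
      rw [(hA β).1 hβ f hf f' hf', ← map_mul, ← hαβ, (hA α).1 hα f hf f' hf']
    rw [mul_sub, h2, h3, sub_self]
  have h4 : f γ * f (sup β) = f γ := by rw [← map_mul, hγs]
  have h5 : f' γ * f (sup β) = f' γ := by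
    rw [hsup' β hβ f hf f' hf', ← map_mul, hγs]
  rw [← sub_eq_zero]
  apply hcancel f hf β
  rw [map_sub, map_add, map_one]
  calc (f β + 1 - f (sup β)) * (f γ - f' γ)
      = f β * (f γ - f' γ) + f γ - f' γ - (f γ * f (sup β) - f' γ * f (sup β)) := by ring
    _ = 0 := by rw [h1, h4, h5]; ring

end K672.NormProd
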