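import Groth.Agent.InvTh.K672.SchejaStorch
import Mathlib.RingTheory.IntegralClosure.Algebra.Basic
import Mathlib.RingTheory.Ideal.Quotient.Operations
import Mathlib.RingTheory.Ideal.Maximal

/-!
# The trace form of a finite polynomial extension, II: existence and invariance
-/

set_option autoImplicit false
set_option linter.all false

open TensorProduct MvPolynomial Matrix

namespace K672.SchejaStorch

variable {k : Type*} [Field k] {n : ℕ}
variable {P : Type*} [CommRing P] [Algebra k P] [Algebra P (MvPolynomial (Fin n) k)] [IsScalarTower k P (MvPolynomial (Fin n) k)]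

theorem L_add (f g : (MvPolynomial (Fin n) k) →ₗ[P] P) (z : (MvPolynomial (Fin n) k) ⊗[k] (MvPolynomial (Fin n) k)) : L (f + g) z = L f z + L g z := by
  induction z with
  | zero => simp
  | tmul v u => rw [L_tmul, L_tmul, L_tmul, LinearMap.add_apply, map_add, mul_add]
  | add x y hx hy => rw [map_add, hx, hy, map_add, map_add]; ring

variable {T : Fin n → P} {c : Matrix (Fin n) (Fin n) ((MvPolynomial (Fin n) k) ⊗[k] (MvPolynomial (Fin n) k))} (hc : c *ᵥ dx k n = F k T)

include hc in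
theorem mul_L (f : (MvPolynomial (Fin n) k) →ₗ[P] P) (r : (MvPolynomial (Fin n) k)) : r * L f c.det = L (f ∘ₗ LinearMap.mulLeft P r) c.det := by
  rw [L_mulLeft, ← L_mul_left]
  symm
  apply L_congr T
  rw [← sub_mul]
  exact diff_mul_mem hc r

/-- the ideal of all values -/
noncomputable def valueIdeal (hc : c *ᵥ dx k n = F k T) : Ideal (MvPolynomial (Fin n) k) where
  carrier := {r | ∃ f : (MvPolynomial (Fin n) k) →ₗ[P] P, L f c.det = r}
  add_mem' := by
    rintro _ _ ⟨f, rfl⟩ ⟨g, rfl⟩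
    exact ⟨f + g, L_add f g _⟩
  zero_mem' := ⟨0, by
    have := L_add (0 : (MvPolynomial (Fin n) k) →ₗ[P] P) 0 c.det
    rw [add_zero] at this
    simpa using this⟩
  smul_mem' := by
    rintro r _ ⟨f, rfl⟩
    exact ⟨_, (mul_L hc f r).symm⟩

section point

variable {K : Type*} [Field K] [Algebra k K] (a : (MvPolynomial (Fin n) k) →ₐ[k] K)

/-- evaluate the first factor at a point and translate the second one -/
noncomputable def psi : (MvPolynomial (Fin n) k) ⊗[k] (MvPolynomial (Fin n) k) →ₐ[k] MvPolynomial (Fin n) K :=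
  Algebra.TensorProduct.lift
    (((Algebra.ofId K (MvPolynomial (Fin n) K)).restrictScalars k).comp a)
    (aeval fun j => X j + C (a (X j))) (fun _ _ => Commute.all _ _)

theorem psi_tmul (v u : (MvPolynomial (Fin n) k)) : psi a (v ⊗ₜ[k] u) = C (a v) * aeval (fun j => X j + C (a (X j))) u := rfl

theorem psi_dx (j : Fin n) : psi a (dx k n j) = X j := by
  rw [dx, map_sub, psi_tmul, psi_tmul, map_one a, C_1, one_mul, aeval_X,
    map_one (aeval fun j => X j + C (a (X j))), mul_one]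
  ring

theorem psi_mem {z : (MvPolynomial (Fin n) k) ⊗[k] (MvPolynomial (Fin n) k)} (hz : z ∈ I k T) :
    psi a z ∈ Ideal.span (Set.range fun i => psi a (F k T i)) := by
  obtain ⟨b, rfl⟩ := (Submodule.mem_span_range_iff_exists_fun _).1 hz
  rw [map_sum]
  refine Ideal.sum_mem _ fun i _ => ?_
  rw [smul_eq_mul, map_mul]
  exact Ideal.mul_mem_left _ _ (Ideal.subset_span ⟨i, rfl⟩)

/-- a univariate relation for each variable -/
theorem exists_relation (hT : Algebra.adjoin k (Set.range T) = ⊤) [Algebra.IsIntegral P (MvPolynomial (Fin n) k)]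
    (j : Fin n) : ∃ (N : ℕ) (s : MvPolynomial (Fin n) K), constantCoeff s ≠ 0 ∧
      X j ^ N * s ∈ Ideal.span (Set.range fun i => psi a (F k T i)) := by
  obtain ⟨q, hq, hq0⟩ := Algebra.IsIntegral.isIntegral (R := P) (X j : (MvPolynomial (Fin n) k))
  let ι : P →+* (MvPolynomial (Fin n) k) ⊗[k] (MvPolynomial (Fin n) k) :=
    (Algebra.TensorProduct.includeLeftRingHom : (MvPolynomial (Fin n) k) →+* (MvPolynomial (Fin n) k) ⊗[k] (MvPolynomial (Fin n) k)).comp (algebraMap P (MvPolynomial (Fin n) k))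
  let ι' : P →+* (MvPolynomial (Fin n) k) ⊗[k] (MvPolynomial (Fin n) k) :=
    ((Algebra.TensorProduct.includeRight : (MvPolynomial (Fin n) k) →ₐ[k] (MvPolynomial (Fin n) k) ⊗[k] (MvPolynomial (Fin n) k)) : (MvPolynomial (Fin n) k) →+* (MvPolynomial (Fin n) k) ⊗[k] (MvPolynomial (Fin n) k)).comp
      (algebraMap P (MvPolynomial (Fin n) k))
  have hmk : (Ideal.Quotient.mk (I k T)).comp ι = (Ideal.Quotient.mk (I k T)).comp ι' := by
    refine RingHom.ext fun p => ?_
    change Ideal.Quotient.mk (I k T) (ι p) = Ideal.Quotient.mk (I k T) (ι' p)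
    rw [eq_comm, Ideal.Quotient.mk_eq_mk_iff_sub_mem]
    exact diff_mem T hT p
  have h1 : q.eval₂ ι ((1 : (MvPolynomial (Fin n) k)) ⊗ₜ[k] (X j : (MvPolynomial (Fin n) k))) ∈ I k T := by
    rw [← Ideal.Quotient.eq_zero_iff_mem, Polynomial.hom_eval₂, hmk, ← Polynomial.hom_eval₂,
      Ideal.Quotient.eq_zero_iff_mem]
    have h2 : q.eval₂ ι' ((1 : (MvPolynomial (Fin n) k)) ⊗ₜ[k] (X j : (MvPolynomial (Fin n) k))) =
        (Algebra.TensorProduct.includeRight : (MvPolynomial (Fin n) k) →ₐ[k] (MvPolynomial (Fin n) k) ⊗[k] (MvPolynomial (Fin n) k))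
          (q.eval₂ (algebraMap P (MvPolynomial (Fin n) k)) (X j)) := by
      have := Polynomial.hom_eval₂ q (algebraMap P (MvPolynomial (Fin n) k))
        ((Algebra.TensorProduct.includeRight : (MvPolynomial (Fin n) k) →ₐ[k] (MvPolynomial (Fin n) k) ⊗[k] (MvPolynomial (Fin n) k)) : (MvPolynomial (Fin n) k) →+* (MvPolynomial (Fin n) k) ⊗[k] (MvPolynomial (Fin n) k)) (X j)
      exact this.symm
    rw [h2, hq0, map_zero]
    exact Submodule.zero_mem _
  have h3 := psi_mem (T := T) a h1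
  let φ : P →+* K := (a : (MvPolynomial (Fin n) k) →+* K).comp (algebraMap P (MvPolynomial (Fin n) k))
  have h4 : psi a (q.eval₂ ι ((1 : (MvPolynomial (Fin n) k)) ⊗ₜ[k] (X j : (MvPolynomial (Fin n) k)))) =
      (q.map φ).eval₂ C (X j + C (a (X j))) := by
    have h5 := Polynomial.hom_eval₂ q ι
      ((psi a : (MvPolynomial (Fin n) k) ⊗[k] (MvPolynomial (Fin n) k) →ₐ[k] MvPolynomial (Fin n) K) : (MvPolynomial (Fin n) k) ⊗[k] (MvPolynomial (Fin n) k) →+* MvPolynomial (Fin n) K)
      ((1 : (MvPolynomial (Fin n) k)) ⊗ₜ[k] (X j : (MvPolynomial (Fin n) k)))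
    rw [Polynomial.eval₂_map]
    refine Eq.trans h5 ?_
    congr 1
    · refine RingHom.ext fun p => ?_
      change psi a (algebraMap P (MvPolynomial (Fin n) k) p ⊗ₜ 1) = C (a (algebraMap P (MvPolynomial (Fin n) k) p))
      rw [psi_tmul, map_one (aeval fun j => X j + C (a (X j))), mul_one]
    · change psi a (1 ⊗ₜ X j) = _
      rw [psi_tmul, map_one a, C_1, one_mul, aeval_X]
  set h : Polynomial K := (q.map φ).comp (Polynomial.X + Polynomial.C (a (X j))) with hh
  have hmon : h.Monic := (hq.map φ).comp_X_add_C _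
  have h5 : h.eval₂ (C : K →+* MvPolynomial (Fin n) K) (X j) =
      (q.map φ).eval₂ C (X j + C (a (X j))) := by
    rw [hh, Polynomial.eval₂_comp]
    simp
  obtain ⟨s, hs, hnd⟩ := Polynomial.exists_eq_pow_rootMultiplicity_mul_and_not_dvd h hmon.ne_zero 0
  refine ⟨h.rootMultiplicity 0, s.eval₂ C (X j), ?_, ?_⟩
  · have h6 : constantCoeff (s.eval₂ (C : K →+* MvPolynomial (Fin n) K) (X j)) = s.eval 0 := by
      rw [Polynomial.hom_eval₂, ← Polynomial.coeff_zero_eq_eval_zero]
      simp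
    rw [h6]
    intro h0
    exact hnd (Polynomial.dvd_iff_isRoot.2 h0)
  · have h7 : (X j : MvPolynomial (Fin n) K) ^ (h.rootMultiplicity 0) * s.eval₂ C (X j) =
        h.eval₂ (C : K →+* MvPolynomial (Fin n) K) (X j) := by
      conv_rhs => rw [hs]
      rw [Polynomial.eval₂_mul, Polynomial.eval₂_pow]
      simp
    rw [h7, h5, ← h4]
    exact h3

include hc in
/-- `det c` does not vanish at a point -/
theorem psi_det_not_mem (hT : Algebra.adjoin k (Set.range T) = ⊤) [Algebra.IsIntegral P (MvPolynomial (Fin n) k)] :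
    psi a c.det ∉ Ideal.span (Set.range fun i => psi a (F k T i)) := by
  classical
  choose N s hs hmem using exists_relation (T := T) a hT
  have h1 : psi a c.det = (c.map (psi a)).det := by
    have := RingHom.map_det ((psi a : (MvPolynomial (Fin n) k) ⊗[k] (MvPolynomial (Fin n) k) →ₐ[k] MvPolynomial (Fin n) K) :
      (MvPolynomial (Fin n) k) ⊗[k] (MvPolynomial (Fin n) k) →+* MvPolynomial (Fin n) K) c
    exact this
  rw [h1]
  refine Wiebe.det_not_mem _ _ ?_ (∏ j, s j) ?_ (1 + ∑ j, N j) (by omega) fun j => ?_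
  · ext1 i
    have h2 := congrArg (psi a) (congrFun hc i)
    rw [mulVec, dotProduct, map_sum] at h2
    rw [mulVec, dotProduct]
    rw [← h2]
    refine Finset.sum_congr rfl fun l _ => ?_
    rw [map_mul, psi_dx]
    rfl
  · rw [map_prod]
    exact Finset.prod_ne_zero_iff.2 fun j _ => hs j
  · have h3 : 1 + ∑ j, N j = N j + (1 + ∑ l ∈ Finset.univ.erase j, N l) := by
      rw [← Finset.add_sum_erase _ _ (Finset.mem_univ j)]; ring
    rw [← Finset.mul_prod_erase _ _ (Finset.mem_univ j), h3, pow_add]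
    have h4 : s j * (∏ l ∈ Finset.univ.erase j, s l) * (X j ^ N j *
        X j ^ (1 + ∑ l ∈ Finset.univ.erase j, N l)) =
        (∏ l ∈ Finset.univ.erase j, s l) * X j ^ (1 + ∑ l ∈ Finset.univ.erase j, N l) *
          (X j ^ N j * s j) := by ring
    rw [h4]
    exact Ideal.mul_mem_left _ _ (hmem j)

end point

include hc in
/-- existence of a form with value one -/
theorem exists_form (hT : Algebra.adjoin k (Set.range T) = ⊤) [Module.Finite P (MvPolynomial (Fin n) k)]
    [Module.Projective P (MvPolynomial (Fin n) k)] : ∃ τ : (MvPolynomial (Fin n) k) →ₗ[P] P, L τ c.det = 1 := by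
  have hint : Algebra.IsIntegral P (MvPolynomial (Fin n) k) := Algebra.IsIntegral.of_finite P (MvPolynomial (Fin n) k)
  by_contra hcon
  have hne : valueIdeal hc ≠ ⊤ := by
    intro h
    exact hcon ((Ideal.eq_top_iff_one _).1 h)
  obtain ⟨M, hM, hle⟩ := Ideal.exists_le_maximal _ hne
  let _ := Ideal.Quotient.field M
  let a : (MvPolynomial (Fin n) k) →ₐ[k] (MvPolynomial (Fin n) k) ⧸ M := Ideal.Quotient.mkₐ k M
  obtain ⟨m, fu, g, -, -, hfg⟩ := Module.Finite.exists_comp_eq_id_of_projective P (MvPolynomial (Fin n) k)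
  let u : Fin m → (MvPolynomial (Fin n) k) := fun i => fu (Pi.single i 1)
  let f : Fin m → ((MvPolynomial (Fin n) k) →ₗ[P] P) := fun i => (LinearMap.proj i) ∘ₗ g
  have hdual : ∀ r : (MvPolynomial (Fin n) k), r = ∑ i, algebraMap P (MvPolynomial (Fin n) k) (f i r) * u i := by
    intro r
    have h1 := LinearMap.congr_fun hfg r
    rw [LinearMap.comp_apply, LinearMap.id_apply] at h1
    conv_lhs => rw [← h1, pi_eq_sum_univ' (g r), map_sum]
    refine Finset.sum_congr rfl fun i _ => ?_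
    rw [map_smul, Algebra.smul_def]
    rfl
  have hdec : ∀ z : (MvPolynomial (Fin n) k) ⊗[k] (MvPolynomial (Fin n) k), z - ∑ i, (L (f i) z) ⊗ₜ[k] u i ∈ I k T := by
    intro z
    induction z with
    | zero => simp
    | tmul v w =>
      have h2 : (v ⊗ₜ[k] w : (MvPolynomial (Fin n) k) ⊗[k] (MvPolynomial (Fin n) k)) - ∑ i, (L (f i) (v ⊗ₜ w)) ⊗ₜ[k] u i =
          ∑ i, (v ⊗ₜ u i) * ((1 : (MvPolynomial (Fin n) k)) ⊗ₜ[k] algebraMap P (MvPolynomial (Fin n) k) (f i w) -
            algebraMap P (MvPolynomial (Fin n) k) (f i w) ⊗ₜ[k] (1 : (MvPolynomial (Fin n) k))) := by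
        have h3 : (v ⊗ₜ[k] w : (MvPolynomial (Fin n) k) ⊗[k] (MvPolynomial (Fin n) k)) = ∑ i, v ⊗ₜ[k] (algebraMap P (MvPolynomial (Fin n) k) (f i w) * u i) := by
          rw [← TensorProduct.tmul_sum, ← hdual w]
        calc (v ⊗ₜ[k] w : (MvPolynomial (Fin n) k) ⊗[k] (MvPolynomial (Fin n) k)) - ∑ i, (L (f i) (v ⊗ₜ w)) ⊗ₜ[k] u i
            = ∑ i, v ⊗ₜ[k] (algebraMap P (MvPolynomial (Fin n) k) (f i w) * u i) - ∑ i, (L (f i) (v ⊗ₜ w)) ⊗ₜ[k] u i := by
              rw [← h3]
          _ = _ := ?_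
        rw [← Finset.sum_sub_distrib]
        refine Finset.sum_congr rfl fun i _ => ?_
        rw [mul_sub, Algebra.TensorProduct.tmul_mul_tmul, Algebra.TensorProduct.tmul_mul_tmul,
          mul_one, mul_one, L_tmul, mul_comm (u i)]
      rw [h2]
      exact Ideal.sum_mem _ fun i _ => Ideal.mul_mem_left _ _ (diff_mem T hT _)
    | add x y hx hy =>
      have h2 : x + y - ∑ i, (L (f i) (x + y)) ⊗ₜ[k] u i =
          (x - ∑ i, (L (f i) x) ⊗ₜ[k] u i) + (y - ∑ i, (L (f i) y) ⊗ₜ[k] u i) := by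
        simp only [map_add, TensorProduct.add_tmul, Finset.sum_add_distrib]
        ring
      rw [h2]
      exact Ideal.add_mem _ hx hy
  have h3 := psi_mem (T := T) a (hdec c.det)
  have h4 : psi a (∑ i, (L (f i) c.det) ⊗ₜ[k] u i) = 0 := by
    rw [map_sum]
    refine Finset.sum_eq_zero fun i _ => ?_
    rw [psi_tmul]
    have h5 : a (L (f i) c.det) = 0 := Ideal.Quotient.eq_zero_iff_mem.2 (hle ⟨f i, rfl⟩)
    rw [h5, C_0, zero_mul]
  rw [map_sub, h4, sub_zero] at h3
  exact psi_det_not_mem hc a hT h3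

/-- algebra endomorphisms fixing the generators are `P`-linear -/
theorem map_algebraMap (hT : Algebra.adjoin k (Set.range T) = ⊤) (g : (MvPolynomial (Fin n) k) →ₐ[k] (MvPolynomial (Fin n) k))
    (hg : ∀ i, g (algebraMap P (MvPolynomial (Fin n) k) (T i)) = algebraMap P (MvPolynomial (Fin n) k) (T i)) (p : P) :
    g (algebraMap P (MvPolynomial (Fin n) k) p) = algebraMap P (MvPolynomial (Fin n) k) p := by
  have hp : p ∈ Algebra.adjoin k (Set.range T) := hT ▸ Algebra.mem_top
  induction hp using Algebra.adjoin_induction with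
  | mem x hx => obtain ⟨i, rfl⟩ := hx; exact hg i
  | algebraMap c =>
    rw [← IsScalarTower.algebraMap_apply]
    exact g.commutes c
  | add x y _ _ hx hy => rw [map_add, map_add, hx, hy]
  | mul x y _ _ hx hy => rw [map_mul, map_mul, hx, hy]

include hc in
/-- invariance of the form -/
theorem form_invariant (hT : Algebra.adjoin k (Set.range T) = ⊤) (τ : (MvPolynomial (Fin n) k) →ₗ[P] P)
    (hτ : L τ c.det = 1) (g : (MvPolynomial (Fin n) k) ≃ₐ[k] (MvPolynomial (Fin n) k))
    (hg : ∀ i, g (algebraMap P (MvPolynomial (Fin n) k) (T i)) = algebraMap P (MvPolynomial (Fin n) k) (T i)) (b : Matrix (Fin n) (Fin n) k)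
    (hb : ∀ j, g (X j) = ∑ l, b l j • (X l : (MvPolynomial (Fin n) k))) (hdet : b.det = 1) (r : (MvPolynomial (Fin n) k)) : τ (g r) = τ r := by
  have hgP : ∀ p, g (algebraMap P (MvPolynomial (Fin n) k) p) = algebraMap P (MvPolynomial (Fin n) k) p :=
    map_algebraMap hT (g : (MvPolynomial (Fin n) k) →ₐ[k] (MvPolynomial (Fin n) k)) hg
  let gl : (MvPolynomial (Fin n) k) →ₗ[P] (MvPolynomial (Fin n) k) :=
    { toFun := g
      map_add' := map_add g
      map_smul' := fun p r => by
        rw [RingHom.id_apply, Algebra.smul_def, Algebra.smul_def, map_mul, hgP] }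
  let σ : (MvPolynomial (Fin n) k) ⊗[k] (MvPolynomial (Fin n) k) →ₐ[k] (MvPolynomial (Fin n) k) ⊗[k] (MvPolynomial (Fin n) k) := Algebra.TensorProduct.map (g : (MvPolynomial (Fin n) k) →ₐ[k] (MvPolynomial (Fin n) k)) (g : (MvPolynomial (Fin n) k) →ₐ[k] (MvPolynomial (Fin n) k))
  let B : Matrix (Fin n) (Fin n) ((MvPolynomial (Fin n) k) ⊗[k] (MvPolynomial (Fin n) k)) := (b.map (algebraMap k ((MvPolynomial (Fin n) k) ⊗[k] (MvPolynomial (Fin n) k)))).transpose
  have hBdet : B.det = 1 := by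
    have h1 : (b.map (algebraMap k ((MvPolynomial (Fin n) k) ⊗[k] (MvPolynomial (Fin n) k)))).det = algebraMap k ((MvPolynomial (Fin n) k) ⊗[k] (MvPolynomial (Fin n) k)) b.det :=
      (RingHom.map_det (algebraMap k ((MvPolynomial (Fin n) k) ⊗[k] (MvPolynomial (Fin n) k))) b).symm
    rw [det_transpose, h1, hdet, map_one]
  have h2 := map_det_sub_mem hc (σ : (MvPolynomial (Fin n) k) ⊗[k] (MvPolynomial (Fin n) k) →+* (MvPolynomial (Fin n) k) ⊗[k] (MvPolynomial (Fin n) k)) B (fun j => by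
    change σ (dx k n j) = _
    rw [dx, map_sub]
    change (g 1) ⊗ₜ (g (X j)) - (g (X j)) ⊗ₜ (g 1) = _
    rw [map_one, hb, TensorProduct.tmul_sum, TensorProduct.sum_tmul, ← Finset.sum_sub_distrib]
    refine Finset.sum_congr rfl fun l _ => ?_
    change _ = algebraMap k ((MvPolynomial (Fin n) k) ⊗[k] (MvPolynomial (Fin n) k)) (b l j) * dx k n l
    rw [← Algebra.smul_def, dx, smul_sub, TensorProduct.smul_tmul', TensorProduct.smul_tmul',
      TensorProduct.smul_tmul (b l j) (1 : (MvPolynomial (Fin n) k)) (X l : (MvPolynomial (Fin n) k))])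
    (fun _ => 1) (fun _ => one_mul 1) (fun i => by
    change σ (F k T i) = _
    rw [F, map_sub]
    change (g 1) ⊗ₜ (g _) - (g _) ⊗ₜ (g 1) = _
    rw [map_one, hg, one_mul])
  rw [Finset.prod_const_one, one_mul, hBdet, mul_one] at h2
  have h3 : ∀ z : (MvPolynomial (Fin n) k) ⊗[k] (MvPolynomial (Fin n) k), g (L (τ ∘ₗ gl) z) = L τ (σ z) := by
    intro z
    induction z with
    | zero => simp
    | tmul v u =>
      rw [L_tmul, map_mul, hgP]
      rfl
    | add x y hx hy => rw [map_add, map_add, hx, hy, map_add, map_add]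
  have h4 : L (τ ∘ₗ gl) c.det = 1 := by
    apply g.injective
    rw [h3, map_one, ← hτ]
    exact L_congr T τ h2
  have h5 := form_eq hc τ hτ (τ ∘ₗ gl) r
  rw [h4, one_mul] at h5
  exact h5.symm

end K672.SchejaStorch
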