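import Groth.Agent.InvTh.K672.Wiebe
import Mathlib.RingTheory.TensorProduct.MvPolynomial
import Mathlib.RingTheory.Finiteness.Projective
import Mathlib.Algebra.Polynomial.Div
import Mathlib.RingTheory.IntegralClosure.IsIntegral.Basic

/-!
# The trace form of a finite polynomial extension (Scheja–Storch), with its equivariance

`R = k[X_1, …, X_n]`, finite projective over `P`, which is generated over `k` by `T_1, …, T_n`.
`exists_form`: there is a `P`-linear form `τ` on `R` such that every `P`-linear form is `τ (r ·)`, and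
`τ` is invariant under every linear substitution of determinant one which fixes the image of `P`.
-/

set_option autoImplicit false
set_option linter.all false

open TensorProduct MvPolynomial Matrix

namespace K672.SchejaStorch

variable (k : Type*) [Field k] (n : ℕ)

/-- the differences of the variables -/
noncomputable def dx (j : Fin n) : (MvPolynomial (Fin n) k) ⊗[k] (MvPolynomial (Fin n) k) := 1 ⊗ₜ X j - X j ⊗ₜ 1

/-- translation -/
noncomputable def trans : MvPolynomial (Fin n) (MvPolynomial (Fin n) k) ≃ₐ[(MvPolynomial (Fin n) k)] MvPolynomial (Fin n) (MvPolynomial (Fin n) k) :=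
  AlgEquiv.ofAlgHom (aeval fun j => X j + C (X j)) (aeval fun j => X j - C (X j))
    (by apply MvPolynomial.algHom_ext; intro j; simp)
    (by apply MvPolynomial.algHom_ext; intro j; simp)

theorem kos_dx : Wiebe.Kos (dx k n) := by
  let e : MvPolynomial (Fin n) (MvPolynomial (Fin n) k) ≃+* (MvPolynomial (Fin n) k) ⊗[k] (MvPolynomial (Fin n) k) :=
    ((trans k n).symm.trans (algebraTensorAlgEquiv k (MvPolynomial (Fin n) k)).symm).toRingEquiv
  refine Wiebe.Kos.map e Wiebe.kos_X (dx k n) fun j => ?_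
  change (algebraTensorAlgEquiv k (MvPolynomial (Fin n) k)).symm ((trans k n).symm (X j)) = _
  rw [AlgEquiv.symm_apply_eq]
  change (aeval fun j => X j - C (X j)) (X j) = _
  rw [aeval_X, dx, map_sub, algebraTensorAlgEquiv_tmul, algebraTensorAlgEquiv_tmul]
  simp [Algebra.smul_def]

variable {n}

theorem exists_coeff (p : (MvPolynomial (Fin n) k)) : ∃ c : Fin n → (MvPolynomial (Fin n) k) ⊗[k] (MvPolynomial (Fin n) k),
    (1 : (MvPolynomial (Fin n) k)) ⊗ₜ[k] p - p ⊗ₜ[k] (1 : (MvPolynomial (Fin n) k)) = ∑ j, c j * dx k n j := by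
  have key : (1 : (MvPolynomial (Fin n) k)) ⊗ₜ[k] p - p ⊗ₜ[k] (1 : (MvPolynomial (Fin n) k)) ∈ Ideal.span (Set.range (dx k n)) := by
    induction p using MvPolynomial.induction_on with
    | C a =>
      have : (1 : (MvPolynomial (Fin n) k)) ⊗ₜ[k] (C a : (MvPolynomial (Fin n) k)) - (C a : (MvPolynomial (Fin n) k)) ⊗ₜ[k] (1 : (MvPolynomial (Fin n) k)) = 0 := by
        have h1 : (C a : (MvPolynomial (Fin n) k)) = a • (1 : (MvPolynomial (Fin n) k)) := by
          rw [← algebraMap_eq, Algebra.algebraMap_eq_smul_one]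
        rw [h1, TensorProduct.smul_tmul, sub_self]
      rw [this]; exact Submodule.zero_mem _
    | add p q hp hq =>
      have : (1 : (MvPolynomial (Fin n) k)) ⊗ₜ[k] (p + q) - (p + q) ⊗ₜ[k] (1 : (MvPolynomial (Fin n) k)) =
          ((1 : (MvPolynomial (Fin n) k)) ⊗ₜ[k] p - p ⊗ₜ[k] (1 : (MvPolynomial (Fin n) k))) + ((1 : (MvPolynomial (Fin n) k)) ⊗ₜ[k] q - q ⊗ₜ[k] (1 : (MvPolynomial (Fin n) k))) := by
        rw [TensorProduct.tmul_add, TensorProduct.add_tmul]; ring
      rw [this]; exact Ideal.add_mem _ hp hq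
    | mul_X p j hp =>
      have : (1 : (MvPolynomial (Fin n) k)) ⊗ₜ[k] (p * X j) - (p * X j) ⊗ₜ[k] (1 : (MvPolynomial (Fin n) k)) =
          ((1 : (MvPolynomial (Fin n) k)) ⊗ₜ[k] (X j : (MvPolynomial (Fin n) k))) * ((1 : (MvPolynomial (Fin n) k)) ⊗ₜ[k] p - p ⊗ₜ[k] (1 : (MvPolynomial (Fin n) k))) +
            (p ⊗ₜ[k] (1 : (MvPolynomial (Fin n) k))) * dx k n j := by
        rw [dx, mul_sub, mul_sub]
        simp only [Algebra.TensorProduct.tmul_mul_tmul, one_mul, mul_one]
        rw [mul_comm (X j) p]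
        ring
      rw [this]
      exact Ideal.add_mem _ (Ideal.mul_mem_left _ _ hp)
        (Ideal.mul_mem_left _ _ (Ideal.subset_span ⟨j, rfl⟩))
  obtain ⟨c, hc⟩ := (Submodule.mem_span_range_iff_exists_fun _).1 key
  exact ⟨c, hc.symm⟩

variable {k}

section P

variable {P : Type*} [CommRing P] [Algebra k P] [Algebra P (MvPolynomial (Fin n) k)] [IsScalarTower k P (MvPolynomial (Fin n) k)]

/-- `v ⊗ u ↦ v f(u)` -/
noncomputable def L (f : (MvPolynomial (Fin n) k) →ₗ[P] P) : (MvPolynomial (Fin n) k) ⊗[k] (MvPolynomial (Fin n) k) →ₗ[k] (MvPolynomial (Fin n) k) :=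
  LinearMap.mul' k (MvPolynomial (Fin n) k) ∘ₗ TensorProduct.map LinearMap.id
    ((Algebra.linearMap P (MvPolynomial (Fin n) k) ∘ₗ f).restrictScalars k)

theorem L_tmul (f : (MvPolynomial (Fin n) k) →ₗ[P] P) (v u : (MvPolynomial (Fin n) k)) : L f (v ⊗ₜ[k] u) = v * algebraMap P (MvPolynomial (Fin n) k) (f u) := rfl

theorem L_mul_left (f : (MvPolynomial (Fin n) k) →ₗ[P] P) (r : (MvPolynomial (Fin n) k)) (z : (MvPolynomial (Fin n) k) ⊗[k] (MvPolynomial (Fin n) k)) :
    L f ((r ⊗ₜ 1) * z) = r * L f z := by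
  induction z with
  | zero => simp
  | tmul v u => rw [Algebra.TensorProduct.tmul_mul_tmul, one_mul, L_tmul, L_tmul, mul_assoc]
  | add x y hx hy => rw [mul_add, map_add, hx, hy, map_add, mul_add]

theorem L_mulLeft (f : (MvPolynomial (Fin n) k) →ₗ[P] P) (r : (MvPolynomial (Fin n) k)) (z : (MvPolynomial (Fin n) k) ⊗[k] (MvPolynomial (Fin n) k)) :
    L (f ∘ₗ LinearMap.mulLeft P r) z = L f ((1 ⊗ₜ r) * z) := by
  induction z with
  | zero => simp
  | tmul v u => rw [Algebra.TensorProduct.tmul_mul_tmul, one_mul, L_tmul, L_tmul]; rfl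
  | add x y hx hy => rw [mul_add, map_add, hx, hy, map_add]

variable (T : Fin n → P)

variable (k) in
/-- the equations `1 ⊗ T i - T i ⊗ 1` -/
noncomputable def F (i : Fin n) : (MvPolynomial (Fin n) k) ⊗[k] (MvPolynomial (Fin n) k) :=
  1 ⊗ₜ algebraMap P (MvPolynomial (Fin n) k) (T i) - algebraMap P (MvPolynomial (Fin n) k) (T i) ⊗ₜ 1

variable (k) in
/-- their ideal -/
noncomputable def I : Ideal ((MvPolynomial (Fin n) k) ⊗[k] (MvPolynomial (Fin n) k)) := Ideal.span (Set.range (F k T))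

theorem F_mem (i : Fin n) : (F k T i) ∈ I k T := Ideal.subset_span ⟨i, rfl⟩

theorem L_mem (f : (MvPolynomial (Fin n) k) →ₗ[P] P) (z : (MvPolynomial (Fin n) k) ⊗[k] (MvPolynomial (Fin n) k)) (hz : z ∈ I k T) : L f z = 0 := by
  have h1 : ∀ i (w : (MvPolynomial (Fin n) k) ⊗[k] (MvPolynomial (Fin n) k)), L f (w * F k T i) = 0 := by
    intro i w
    induction w with
    | zero => simp
    | tmul v u =>
      have : (v ⊗ₜ[k] u) * (F k T i) = v ⊗ₜ (T i • u) - (v * algebraMap P (MvPolynomial (Fin n) k) (T i)) ⊗ₜ u := by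
        rw [F, mul_sub, Algebra.TensorProduct.tmul_mul_tmul, Algebra.TensorProduct.tmul_mul_tmul,
          mul_one, mul_one, Algebra.smul_def, mul_comm u]
      rw [this, map_sub, L_tmul, L_tmul, map_smul, smul_eq_mul, map_mul]
      ring
    | add x y hx hy => rw [add_mul, map_add, hx, hy, add_zero]
  obtain ⟨c, rfl⟩ := (Submodule.mem_span_range_iff_exists_fun _).1 hz
  rw [map_sum]
  exact Finset.sum_eq_zero fun i _ => h1 i (c i)

theorem L_congr (f : (MvPolynomial (Fin n) k) →ₗ[P] P) {z w : (MvPolynomial (Fin n) k) ⊗[k] (MvPolynomial (Fin n) k)} (h : z - w ∈ I k T) : L f z = L f w := by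
  rw [← sub_eq_zero, ← map_sub]
  exact L_mem T f _ h

theorem diff_mem (hT : Algebra.adjoin k (Set.range T) = ⊤) (p : P) :
    ((1 : (MvPolynomial (Fin n) k)) ⊗ₜ[k] algebraMap P (MvPolynomial (Fin n) k) p - algebraMap P (MvPolynomial (Fin n) k) p ⊗ₜ[k] (1 : (MvPolynomial (Fin n) k))) ∈ I k T := by
  have hp : p ∈ Algebra.adjoin k (Set.range T) := hT ▸ Algebra.mem_top
  induction hp using Algebra.adjoin_induction with
  | mem x hx => obtain ⟨i, rfl⟩ := hx; exact F_mem T i
  | algebraMap c =>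
    rw [← IsScalarTower.algebraMap_apply, Algebra.algebraMap_eq_smul_one, TensorProduct.smul_tmul,
      sub_self]
    exact Submodule.zero_mem _
  | add x y _ _ hx hy =>
    have : ((1 : (MvPolynomial (Fin n) k)) ⊗ₜ[k] algebraMap P (MvPolynomial (Fin n) k) (x + y) - algebraMap P (MvPolynomial (Fin n) k) (x + y) ⊗ₜ[k] (1 : (MvPolynomial (Fin n) k))) =
        ((1 : (MvPolynomial (Fin n) k)) ⊗ₜ[k] algebraMap P (MvPolynomial (Fin n) k) x - algebraMap P (MvPolynomial (Fin n) k) x ⊗ₜ[k] (1 : (MvPolynomial (Fin n) k))) +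
        ((1 : (MvPolynomial (Fin n) k)) ⊗ₜ[k] algebraMap P (MvPolynomial (Fin n) k) y - algebraMap P (MvPolynomial (Fin n) k) y ⊗ₜ[k] (1 : (MvPolynomial (Fin n) k))) := by
      rw [map_add, TensorProduct.tmul_add, TensorProduct.add_tmul]; ring
    rw [this]; exact Ideal.add_mem _ hx hy
  | mul x y _ _ hx hy =>
    have : ((1 : (MvPolynomial (Fin n) k)) ⊗ₜ[k] algebraMap P (MvPolynomial (Fin n) k) (x * y) - algebraMap P (MvPolynomial (Fin n) k) (x * y) ⊗ₜ[k] (1 : (MvPolynomial (Fin n) k))) =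
        ((1 : (MvPolynomial (Fin n) k)) ⊗ₜ[k] algebraMap P (MvPolynomial (Fin n) k) y) *
          ((1 : (MvPolynomial (Fin n) k)) ⊗ₜ[k] algebraMap P (MvPolynomial (Fin n) k) x - algebraMap P (MvPolynomial (Fin n) k) x ⊗ₜ[k] (1 : (MvPolynomial (Fin n) k))) +
        (algebraMap P (MvPolynomial (Fin n) k) x ⊗ₜ[k] (1 : (MvPolynomial (Fin n) k))) *
          ((1 : (MvPolynomial (Fin n) k)) ⊗ₜ[k] algebraMap P (MvPolynomial (Fin n) k) y - algebraMap P (MvPolynomial (Fin n) k) y ⊗ₜ[k] (1 : (MvPolynomial (Fin n) k))) := by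
      rw [mul_sub, mul_sub]
      simp only [Algebra.TensorProduct.tmul_mul_tmul, one_mul, mul_one, map_mul]
      rw [mul_comm (algebraMap P (MvPolynomial (Fin n) k) y) (algebraMap P (MvPolynomial (Fin n) k) x)]
      ring
    rw [this]
    exact Ideal.add_mem _ (Ideal.mul_mem_left _ _ hx) (Ideal.mul_mem_left _ _ hy)

variable {T} {c : Matrix (Fin n) (Fin n) ((MvPolynomial (Fin n) k) ⊗[k] (MvPolynomial (Fin n) k))} (hc : c *ᵥ dx k n = F k T)

include hc in
theorem dx_mul_mem (j : Fin n) : dx k n j * c.det ∈ I k T := by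
  have := Wiebe.det_mul_mem c (dx k n) j
  rw [hc] at this
  rwa [mul_comm]

include hc in
theorem diff_mul_mem (r : (MvPolynomial (Fin n) k)) : ((1 : (MvPolynomial (Fin n) k)) ⊗ₜ[k] r - r ⊗ₜ[k] (1 : (MvPolynomial (Fin n) k))) * c.det ∈ I k T := by
  obtain ⟨b, hb⟩ := exists_coeff k r
  rw [hb, Finset.sum_mul]
  refine Ideal.sum_mem _ fun j _ => ?_
  rw [mul_assoc]
  exact Ideal.mul_mem_left _ _ (dx_mul_mem hc j)

include hc in
/-- invariance of `det c` under ring automorphisms compatible with the `dx` and the `F` -/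
theorem map_det_sub_mem (σ : (MvPolynomial (Fin n) k) ⊗[k] (MvPolynomial (Fin n) k) →+* (MvPolynomial (Fin n) k) ⊗[k] (MvPolynomial (Fin n) k)) (B : Matrix (Fin n) (Fin n) ((MvPolynomial (Fin n) k) ⊗[k] (MvPolynomial (Fin n) k)))
    (hB : ∀ j, σ (dx k n j) = ∑ l, B j l * dx k n l) (ε : Fin n → (MvPolynomial (Fin n) k) ⊗[k] (MvPolynomial (Fin n) k))
    (hε : ∀ i, ε i * ε i = 1) (hF : ∀ i, σ (F k T i) = ε i * F k T i) :
    (∏ i, ε i) * (σ c.det * B.det) - c.det ∈ I k T := by
  have h1 : (Matrix.diagonal ε * (c.map σ * B)) *ᵥ dx k n = F k T := by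
    rw [← mulVec_mulVec, ← mulVec_mulVec]
    have h2 : B *ᵥ dx k n = fun j => σ (dx k n j) := by
      ext1 j
      rw [hB]; rfl
    have h3 : (c.map σ) *ᵥ (fun j => σ (dx k n j)) = fun i => σ (F k T i) := by
      ext1 i
      rw [← hc]
      simp only [mulVec, dotProduct, Matrix.map_apply, map_sum, map_mul]
    rw [h2, h3]
    ext1 i
    rw [mulVec_diagonal, hF, ← mul_assoc, hε, one_mul]
  have h4 := Wiebe.det_sub_mem (kos_dx k n) _ _ h1 hc
  rw [det_mul, det_mul, det_diagonal] at h4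
  have h5 : (c.map σ).det = σ c.det := (RingHom.map_det σ c).symm
  rw [h5] at h4
  exact h4

include hc in
theorem swap_sub_mem : Algebra.TensorProduct.comm k (MvPolynomial (Fin n) k) (MvPolynomial (Fin n) k) c.det - c.det ∈ I k T := by
  have h := map_det_sub_mem hc ((Algebra.TensorProduct.comm k (MvPolynomial (Fin n) k) (MvPolynomial (Fin n) k) : (MvPolynomial (Fin n) k) ⊗[k] (MvPolynomial (Fin n) k) →ₐ[k] (MvPolynomial (Fin n) k) ⊗[k] (MvPolynomial (Fin n) k)) :
    (MvPolynomial (Fin n) k) ⊗[k] (MvPolynomial (Fin n) k) →+* (MvPolynomial (Fin n) k) ⊗[k] (MvPolynomial (Fin n) k)) (-1) (fun j => by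
      rw [Finset.sum_eq_single j]
      · simp [dx]
        ring
      · intro l _ hl
        simp [Matrix.neg_apply, Matrix.one_apply, hl.symm]
      · intro h; exact absurd (Finset.mem_univ _) h) (fun _ => -1) (fun _ => by ring) (fun i => by
      simp [F]
      ring)
  have h2 : (∏ i : Fin n, (-1 : (MvPolynomial (Fin n) k) ⊗[k] (MvPolynomial (Fin n) k))) * (-1 : Matrix (Fin n) (Fin n) ((MvPolynomial (Fin n) k) ⊗[k] (MvPolynomial (Fin n) k))).det = 1 := by
    rw [det_neg, det_one, mul_one, Finset.prod_const, Finset.card_univ, ← mul_pow]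
    have : (-1 : (MvPolynomial (Fin n) k) ⊗[k] (MvPolynomial (Fin n) k)) * -1 = 1 := by ring
    rw [this, one_pow]
  have h3 : (∏ i : Fin n, (-1 : (MvPolynomial (Fin n) k) ⊗[k] (MvPolynomial (Fin n) k))) * (Algebra.TensorProduct.comm k (MvPolynomial (Fin n) k) (MvPolynomial (Fin n) k) c.det *
      (-1 : Matrix (Fin n) (Fin n) ((MvPolynomial (Fin n) k) ⊗[k] (MvPolynomial (Fin n) k))).det) = Algebra.TensorProduct.comm k (MvPolynomial (Fin n) k) (MvPolynomial (Fin n) k) c.det := by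
    rw [mul_left_comm, h2, mul_one]
  change (∏ i : Fin n, (-1 : (MvPolynomial (Fin n) k) ⊗[k] (MvPolynomial (Fin n) k))) * (Algebra.TensorProduct.comm k (MvPolynomial (Fin n) k) (MvPolynomial (Fin n) k) c.det *
      (-1 : Matrix (Fin n) (Fin n) ((MvPolynomial (Fin n) k) ⊗[k] (MvPolynomial (Fin n) k))).det) - c.det ∈ I k T at h
  rwa [h3] at h

include hc in
/-- The form representing every other form. -/
theorem form_eq (τ : (MvPolynomial (Fin n) k) →ₗ[P] P) (hτ : L τ c.det = 1) (f : (MvPolynomial (Fin n) k) →ₗ[P] P) (r : (MvPolynomial (Fin n) k)) :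
    τ (L f c.det * r) = f r := by
  have key : ∀ z : (MvPolynomial (Fin n) k) ⊗[k] (MvPolynomial (Fin n) k), τ (L f z * r) =
      f (L τ ((1 ⊗ₜ r) * Algebra.TensorProduct.comm k (MvPolynomial (Fin n) k) (MvPolynomial (Fin n) k) z)) := by
    intro z
    induction z with
    | zero => simp
    | tmul v u =>
      rw [L_tmul, Algebra.TensorProduct.comm_tmul, Algebra.TensorProduct.tmul_mul_tmul, one_mul,
        L_tmul]
      have h1 : v * algebraMap P (MvPolynomial (Fin n) k) (f u) * r = f u • (r * v) := by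
        rw [Algebra.smul_def]; ring
      have h2 : u * algebraMap P (MvPolynomial (Fin n) k) (τ (r * v)) = τ (r * v) • u := by
        rw [Algebra.smul_def]; ring
      rw [h1, h2, map_smul, map_smul, smul_eq_mul, smul_eq_mul, mul_comm]
    | add x y hx hy => simp only [map_add, add_mul, mul_add, hx, hy]
  rw [key]
  have h3 : L τ ((1 ⊗ₜ r) * Algebra.TensorProduct.comm k (MvPolynomial (Fin n) k) (MvPolynomial (Fin n) k) c.det) = r := by
    have h4 : (1 ⊗ₜ r) * Algebra.TensorProduct.comm k (MvPolynomial (Fin n) k) (MvPolynomial (Fin n) k) c.det - (r ⊗ₜ 1) * c.det ∈ I k T := by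
      have : (1 ⊗ₜ r) * Algebra.TensorProduct.comm k (MvPolynomial (Fin n) k) (MvPolynomial (Fin n) k) c.det - (r ⊗ₜ 1) * c.det =
          (1 ⊗ₜ r) * (Algebra.TensorProduct.comm k (MvPolynomial (Fin n) k) (MvPolynomial (Fin n) k) c.det - c.det) +
          ((1 : (MvPolynomial (Fin n) k)) ⊗ₜ[k] r - r ⊗ₜ[k] (1 : (MvPolynomial (Fin n) k))) * c.det := by ring
      rw [this]
      exact Ideal.add_mem _ (Ideal.mul_mem_left _ _ (swap_sub_mem hc)) (diff_mul_mem hc r)
    rw [L_congr T τ h4, L_mul_left, hτ, mul_one]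
  rw [h3]

end P

end K672.SchejaStorch
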