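import Groth.Agent.InvTh.K672.SSForm
import Groth.Agent.InvTh.K672.FormGor
import Groth.Agent.InvTh.K672.FinFlat
import Groth.Agent.CalgB.CMPoly
import Groth.Agent.WildQuot.K874.Miracle
import Groth.Agent.S0342
import Mathlib.RingTheory.Invariant.Basic
import Mathlib.RingTheory.NoetherNormalization
import Mathlib.RingTheory.Adjoin.Tower
import Mathlib.RingTheory.KrullDimension.Polynomial
import Mathlib.RingTheory.RegularLocalRing.Polynomial

/-!
# Watanabe's theorem for finite groups of order invertible in the field
-/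

set_option autoImplicit false
set_option linter.all false
universe u

open MvPolynomial Matrix TensorProduct

namespace K672.Watanabe

variable {k : Type u} [Field k] {n : ℕ}

/-- a regular ring is Gorenstein -/
theorem isGorensteinRing_of_isRegularRing (P : Type u) [CommRing P] [IsRegularRing P] :
    LocCoh.IsGorensteinRing P :=
  ⟨fun p _ => Groth.Agent.S0342.result (Localization.AtPrime p)⟩

theorem isCohenMacaulayRing_mvPolynomial : LocCoh.IsCohenMacaulayRing (MvPolynomial (Fin n) k) := by
  have : IsRegularRing (MvPolynomial (Fin n) k) := inferInstance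
  refine ⟨fun p hp => ?_⟩
  exact Groth.Agent.Ega4A.RegCM.isCohenMacaulayLocalRing_of_isRegularLocalRing _

/-- Noether normalization, packaged. -/
theorem exists_package (A : Type u) [CommRing A] [Algebra k A] [Algebra A (MvPolynomial (Fin n) k)] [IsScalarTower k A (MvPolynomial (Fin n) k)]
    [FaithfulSMul A (MvPolynomial (Fin n) k)] [Module.Finite A (MvPolynomial (Fin n) k)] [Algebra.FiniteType k A] :
    ∃ (P : Type u) (_ : CommRing P) (_ : IsDomain P) (_ : IsIntegrallyClosed P)
      (_ : IsRegularRing P) (_ : Algebra k P) (T : Fin n → P) (φ : P →ₐ[k] A),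
      Algebra.adjoin k (Set.range T) = ⊤ ∧ Function.Injective φ ∧ φ.Finite := by
  have hnt : Nontrivial A := (algebraMap A (MvPolynomial (Fin n) k)).domain_nontrivial
  obtain ⟨s, φ, hinj, hfin⟩ := exists_finite_inj_algHom_of_fg k A
  have hs : s = n := by
    have hinjA : Function.Injective (algebraMap A (MvPolynomial (Fin n) k)) := FaithfulSMul.algebraMap_injective A (MvPolynomial (Fin n) k)
    let _ : Algebra (MvPolynomial (Fin s) k) A := φ.toRingHom.toAlgebra
    have hfin' : Module.Finite (MvPolynomial (Fin s) k) A := hfin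
    have h1 : ringKrullDim (MvPolynomial (Fin s) k) = ringKrullDim A :=
      K874.Miracle.ringKrullDim_eq_of_isIntegral (R := MvPolynomial (Fin s) k) (A := A) hinj
    have h2 : ringKrullDim A = ringKrullDim (MvPolynomial (Fin n) k) :=
      K874.Miracle.ringKrullDim_eq_of_isIntegral (R := A) (A := (MvPolynomial (Fin n) k)) hinjA
    rw [h2, MvPolynomial.ringKrullDim_of_isNoetherianRing,
      MvPolynomial.ringKrullDim_of_isNoetherianRing, ringKrullDim_eq_zero_of_field] at h1
    simp only [zero_add, Nat.card_eq_fintype_card, Fintype.card_fin] at h1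
    exact_mod_cast h1
  subst hs
  exact ⟨MvPolynomial (Fin s) k, inferInstance, inferInstance, inferInstance, inferInstance,
    inferInstance, X, φ, MvPolynomial.adjoin_range_X, hinj, hfin⟩

section main

variable {G : Type u} [Group G] [Finite G] [MulSemiringAction G (MvPolynomial (Fin n) k)]

/-- the core: a ring of invariants over a Noether normalization -/
theorem core (hG : IsUnit ((Nat.card G : ℕ) : k))
    (hC : ∀ (g : G) (c : k), g • (C c : (MvPolynomial (Fin n) k)) = C c)
    (ρ : G → Matrix (Fin n) (Fin n) k) (hdet : ∀ g, (ρ g).det = 1)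
    (hX : ∀ (g : G) (i : Fin n), g • (X i : (MvPolynomial (Fin n) k)) = ∑ j : Fin n, ρ g j i • (X j : (MvPolynomial (Fin n) k)))
    (A : Type u) [CommRing A] [Algebra k A] [Algebra A (MvPolynomial (Fin n) k)] [IsScalarTower k A (MvPolynomial (Fin n) k)] [FaithfulSMul A (MvPolynomial (Fin n) k)]
    (hA : ∀ r : (MvPolynomial (Fin n) k), (∀ g : G, g • r = r) ↔ ∃ a, algebraMap A (MvPolynomial (Fin n) k) a = r)
    [Module.Finite A (MvPolynomial (Fin n) k)] [Algebra.FiniteType k A] : LocCoh.IsGorensteinRing A := by
  classical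
  cases nonempty_fintype G
  have hinjA : Function.Injective (algebraMap A (MvPolynomial (Fin n) k)) := FaithfulSMul.algebraMap_injective A (MvPolynomial (Fin n) k)
  obtain ⟨P, _, _, _, _, _, T, φ, hT, hφ, hφfin⟩ := exists_package (k := k) (n := n) A
  let _ : Algebra P A := φ.toRingHom.toAlgebra
  let _ : Algebra P (MvPolynomial (Fin n) k) := ((algebraMap A (MvPolynomial (Fin n) k)).comp φ.toRingHom).toAlgebra
  have t1 : IsScalarTower P A (MvPolynomial (Fin n) k) := IsScalarTower.of_algebraMap_eq fun _ => rfl
  have t2 : IsScalarTower k P A := IsScalarTower.of_algebraMap_eq fun c => (φ.commutes c).symm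
  have t3 : IsScalarTower k P (MvPolynomial (Fin n) k) := IsScalarTower.of_algebraMap_eq fun c => by
    rw [IsScalarTower.algebraMap_apply k A (MvPolynomial (Fin n) k), IsScalarTower.algebraMap_apply P A (MvPolynomial (Fin n) k)]
    congr 1
    exact (φ.commutes c).symm
  have hPA : Module.Finite P A := hφfin
  have hPR : Module.Finite P (MvPolynomial (Fin n) k) := Module.Finite.trans A (MvPolynomial (Fin n) k)
  have hfsA : FaithfulSMul P A := (faithfulSMul_iff_algebraMap_injective P A).2 hφ
  have hfsR : FaithfulSMul P (MvPolynomial (Fin n) k) :=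
    (faithfulSMul_iff_algebraMap_injective P (MvPolynomial (Fin n) k)).2 (hinjA.comp hφ)
  have hproj : Module.Projective P (MvPolynomial (Fin n) k) := FinFlat.projective isCohenMacaulayRing_mvPolynomial
  -- the form
  choose c hc using fun i => SchejaStorch.exists_coeff k (algebraMap P (MvPolynomial (Fin n) k) (T i))
  have hc' : (Matrix.of c) *ᵥ SchejaStorch.dx k n = SchejaStorch.F k T := by
    ext1 i
    exact (hc i).symm
  obtain ⟨τ, hτ⟩ := SchejaStorch.exists_form hc' hT
  -- the group
  have hgalg : ∀ (g : G) (a : A), g • algebraMap A (MvPolynomial (Fin n) k) a = algebraMap A (MvPolynomial (Fin n) k) a := fun g a =>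
    (hA _).2 ⟨a, rfl⟩ g
  let e : G → ((MvPolynomial (Fin n) k) ≃ₐ[k] (MvPolynomial (Fin n) k)) := fun g =>
    AlgEquiv.ofRingEquiv (f := MulSemiringAction.toRingEquiv G (MvPolynomial (Fin n) k) g) (fun c => hC g c)
  have he : ∀ g r, e g r = g • r := fun _ _ => rfl
  have hinv : ∀ (g : G) (r : (MvPolynomial (Fin n) k)), τ (g • r) = τ r := by
    intro g r
    rw [← he]
    refine SchejaStorch.form_invariant hc' hT τ hτ (e g) (fun i => ?_) (ρ g) (fun j => ?_)
      (hdet g) r
    · rw [he, IsScalarTower.algebraMap_apply P A (MvPolynomial (Fin n) k)]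
      exact hgalg g _
    · rw [he, hX]
  -- nondegeneracy
  have hnd : ∀ x : (MvPolynomial (Fin n) k), (∀ r, τ (x * r) = 0) → x = 0 := by
    intro x hx
    have h1 := SchejaStorch.mul_L hc' τ x
    rw [hτ, mul_one] at h1
    have h2 : τ ∘ₗ LinearMap.mulLeft P x = 0 := LinearMap.ext fun r => hx r
    rw [h2] at h1
    have h3 : SchejaStorch.L (0 : (MvPolynomial (Fin n) k) →ₗ[P] P) (Matrix.of c).det = 0 := by
      have := SchejaStorch.L_add (0 : (MvPolynomial (Fin n) k) →ₗ[P] P) 0 (Matrix.of c).det
      rw [add_zero] at this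
      simpa using this
    rw [h1, h3]
  -- the Reynolds operator
  obtain ⟨w, hw⟩ := hG.exists_left_inv
  have hsum : ∀ r : (MvPolynomial (Fin n) k), ∃ a : A, algebraMap A (MvPolynomial (Fin n) k) a = w • ∑ g : G, g • r := by
    intro r
    rw [← hA]
    intro h
    have h1 : ∀ (x : (MvPolynomial (Fin n) k)), h • (w • x) = w • (h • x) := by
      intro x
      rw [Algebra.smul_def, Algebra.smul_def, smul_mul']
      congr 1
      exact hC h w
    rw [h1, Finset.smul_sum]
    congr 1
    simp only [← mul_smul]
    exact Fintype.sum_equiv (Equiv.mulLeft h) _ _ fun _ => rfl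
  choose E₀ hE₀ using hsum
  have hgP : ∀ (g : G) (p : P) (r : (MvPolynomial (Fin n) k)), g • (p • r) = p • (g • r) := by
    intro g p r
    rw [Algebra.smul_def, Algebra.smul_def, smul_mul', IsScalarTower.algebraMap_apply P A (MvPolynomial (Fin n) k),
      hgalg]
  let E : (MvPolynomial (Fin n) k) →ₗ[P] A :=
    { toFun := E₀
      map_add' := fun x y => hinjA (by
        rw [map_add, hE₀, hE₀, hE₀, ← smul_add, ← Finset.sum_add_distrib]
        simp only [smul_add])
      map_smul' := fun p x => hinjA (by
        rw [RingHom.id_apply, hE₀, Algebra.smul_def p (E₀ x), map_mul, hE₀,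
          ← IsScalarTower.algebraMap_apply P A (MvPolynomial (Fin n) k), ← Algebra.smul_def, smul_comm p w]
        simp only [hgP, ← Finset.smul_sum]) }
  have hEA : ∀ a : A, E (algebraMap A (MvPolynomial (Fin n) k) a) = a := by
    intro a
    apply hinjA
    change algebraMap A (MvPolynomial (Fin n) k) (E₀ _) = _
    rw [hE₀]
    simp only [hgalg, Finset.sum_const, Finset.card_univ]
    rw [← Nat.cast_smul_eq_nsmul k, smul_smul, ← Nat.card_eq_fintype_card, hw, one_smul]
  have hEg : ∀ (g : G) (r : (MvPolynomial (Fin n) k)), E (g • r) = E r := by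
    intro g r
    apply hinjA
    change algebraMap A (MvPolynomial (Fin n) k) (E₀ _) = algebraMap A (MvPolynomial (Fin n) k) (E₀ _)
    rw [hE₀, hE₀]
    congr 1
    simp only [← mul_smul]
    exact Fintype.sum_equiv (Equiv.mulRight g) _ _ fun _ => rfl
  let i : A →ₗ[P] (MvPolynomial (Fin n) k) := (Algebra.linearMap A (MvPolynomial (Fin n) k)).restrictScalars P
  have hprojA : Module.Projective P A := Module.Projective.of_split i E
    (LinearMap.ext fun a => hEA a)
  refine FormGor.isGorensteinRing (P := P) (isGorensteinRing_of_isRegularRing P) (τ ∘ₗ i)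
    fun f => ?_
  -- every form on `A` is given by an invariant
  let x : (MvPolynomial (Fin n) k) := SchejaStorch.L (f ∘ₗ E) (Matrix.of c).det
  have hx : ∀ r, τ (x * r) = f (E r) := fun r => SchejaStorch.form_eq hc' τ hτ (f ∘ₗ E) r
  have hxinv : ∀ g : G, g • x = x := by
    intro g
    rw [← sub_eq_zero]
    apply hnd
    intro r
    rw [sub_mul, map_sub, sub_eq_zero, hx]
    have h1 : (g • x) * r = g • (x * (g⁻¹ • r)) := by
      rw [smul_mul', smul_inv_smul]
    rw [h1, hinv, hx, hEg]
  obtain ⟨a, ha⟩ := (hA x).1 hxinv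
  refine ⟨a, fun b => ?_⟩
  change f b = τ (algebraMap A (MvPolynomial (Fin n) k) (a * b))
  rw [map_mul, ha, hx, hEA]

end main

end K672.Watanabe
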