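import Mathlib.LinearAlgebra.Matrix.Adjugate
import Mathlib.LinearAlgebra.Matrix.Determinant.Basic
import Mathlib.RingTheory.MvPolynomial.Ideal
import Mathlib.Tactic

/-!
# Determinants of coefficient matrices (Wiebe)

* `Kos x`: every relation between the `x j` is a combination of the Koszul relations.
* `kos_X`: this holds for the variables of a polynomial ring.
* `det_sub_mem`: if `M x = M' x = y` and `Kos x` then `det M ≡ det M'` modulo the ideal of the `y i`.
* `det_not_mem`: over a field, if `f = C X` and the `X j` are nilpotent modulo `(f)` near the origin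
  then `det C ∉ (f)`.
-/

set_option autoImplicit false
set_option linter.all false

open Matrix

namespace K672.Wiebe

section general

variable {S : Type*} [CommRing S] {n : ℕ}

/-- the module of Koszul relations -/
def kosRel (x : Fin n → S) : Submodule S (Fin n → S) :=
  Submodule.span S (Set.range fun p : Fin n × Fin n =>
    x p.1 • Pi.single p.2 (1 : S) - x p.2 • Pi.single p.1 (1 : S))

/-- all relations are Koszul relations -/
def Kos (x : Fin n → S) : Prop := ∀ r : Fin n → S, ∑ j, r j * x j = 0 → r ∈ kosRel x

theorem gen_mem (x : Fin n → S) (a b : Fin n) :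
    x a • Pi.single b (1 : S) - x b • Pi.single a (1 : S) ∈ kosRel x :=
  Submodule.subset_span ⟨(a, b), rfl⟩

theorem Kos.map {S' : Type*} [CommRing S'] (e : S ≃+* S') {x : Fin n → S} (h : Kos x)
    (x' : Fin n → S') (hx : ∀ j, e (x j) = x' j) : Kos x' := by
  intro r hr
  have h1 : (fun j => e.symm (r j)) ∈ kosRel x := by
    apply h
    apply e.injective
    rw [map_sum, map_zero, ← hr]
    refine Finset.sum_congr rfl fun j _ => ?_
    rw [map_mul, e.apply_symm_apply, hx]
  have key : ∀ r₀ ∈ kosRel x, (fun j => e (r₀ j)) ∈ kosRel x' := by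
    intro r₀ hr₀
    induction hr₀ using Submodule.span_induction with
    | mem y hy =>
      obtain ⟨⟨a, b⟩, rfl⟩ := hy
      have : (fun j => e ((x a • Pi.single b (1 : S) - x b • Pi.single a (1 : S) : Fin n → S) j)) =
          x' a • Pi.single b (1 : S') - x' b • Pi.single a (1 : S') := by
        ext j
        simp only [Pi.sub_apply, Pi.smul_apply, smul_eq_mul, map_sub, map_mul, hx, Pi.single_apply]
        split_ifs <;> simp
      rw [this]
      exact gen_mem x' a b
    | zero =>
      have : (fun j => e ((0 : Fin n → S) j)) = 0 := by ext j; simp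
      rw [this]; exact Submodule.zero_mem _
    | add u v _ _ hu hv =>
      have : (fun j => e ((u + v) j)) = (fun j => e (u j)) + fun j => e (v j) := by
        ext j; simp
      rw [this]; exact Submodule.add_mem _ hu hv
    | smul c u _ hu =>
      have : (fun j => e ((c • u) j)) = e c • fun j => e (u j) := by
        ext j; simp
      rw [this]; exact Submodule.smul_mem _ _ hu
  have h2 := key _ h1
  have h3 : (fun j => e (e.symm (r j))) = r := by
    ext j; simp
  rwa [h3] at h2

theorem det_updateRow_mem (N : Matrix (Fin n) (Fin n) S) (x y : Fin n → S) (i : Fin n)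
    (hN : ∀ j, j ≠ i → ∑ l, N j l * x l = y j) (r : Fin n → S) (hr : r ∈ kosRel x) :
    (N.updateRow i r).det ∈ Ideal.span (Set.range y) := by
  induction hr using Submodule.span_induction with
  | mem z hz =>
    obtain ⟨⟨a, b⟩, rfl⟩ := hz
    simp only
    set M := N.updateRow i (Pi.single b 1) with hM
    have h1 : (M.adjugate *ᵥ (M *ᵥ x)) a = M.det * x a := by
      rw [mulVec_mulVec, adjugate_mul, smul_mulVec, one_mulVec]
      rfl
    have h2 : M.adjugate a i = (N.updateRow i (Pi.single a 1)).det := by
      rw [adjugate_apply, hM, updateRow_idem]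
    have h3 : (M *ᵥ x) i = x b := by
      rw [mulVec, hM, updateRow_self]
      simp
    have h4 : ∀ j, j ≠ i → (M *ᵥ x) j = y j := by
      intro j hj
      rw [mulVec, hM, updateRow_ne hj]
      exact hN j hj
    have h5 : M.det * x a = (N.updateRow i (Pi.single a 1)).det * x b +
        ∑ j ∈ Finset.univ.erase i, M.adjugate a j * y j := by
      rw [← h1, mulVec, dotProduct, ← Finset.add_sum_erase _ _ (Finset.mem_univ i), h2, h3]
      congr 1
      refine Finset.sum_congr rfl fun j hj => ?_
      rw [h4 j (Finset.ne_of_mem_erase hj)]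
    have h6 : (N.updateRow i (x a • Pi.single b (1 : S) - x b • Pi.single a (1 : S))).det =
        ∑ j ∈ Finset.univ.erase i, M.adjugate a j * y j := by
      rw [sub_eq_add_neg, ← neg_smul, det_updateRow_add, det_updateRow_smul, det_updateRow_smul,
        ← hM]
      linear_combination h5
    rw [h6]
    exact Ideal.sum_mem _ fun j _ => Ideal.mul_mem_left _ _ (Ideal.subset_span ⟨j, rfl⟩)
  | zero =>
    have : (N.updateRow i (0 : Fin n → S)).det = 0 := by
      apply det_eq_zero_of_row_eq_zero i
      intro j
      simp
    rw [this]; exact Submodule.zero_mem _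
  | add u v _ _ hu hv =>
    rw [det_updateRow_add]
    exact Ideal.add_mem _ hu hv
  | smul c u _ hu =>
    rw [det_updateRow_smul]
    exact Ideal.mul_mem_left _ _ hu

/-- The determinant of a coefficient matrix is well defined modulo the ideal. -/
theorem det_sub_mem {x y : Fin n → S} (hx : Kos x) (M M' : Matrix (Fin n) (Fin n) S)
    (hM : M *ᵥ x = y) (hM' : M' *ᵥ x = y) : M.det - M'.det ∈ Ideal.span (Set.range y) := by
  classical
  let Mt : Finset (Fin n) → Matrix (Fin n) (Fin n) S := fun t i j => if i ∈ t then M' i j else M i j
  have hMt : ∀ t, Mt t *ᵥ x = y := by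
    intro t
    ext i
    by_cases hi : i ∈ t
    · have := congrFun hM' i
      simp only [mulVec, dotProduct, Mt, hi, if_true] at this ⊢
      exact this
    · have := congrFun hM i
      simp only [mulVec, dotProduct, Mt, hi, if_false] at this ⊢
      exact this
  have key : ∀ t : Finset (Fin n), M.det - (Mt t).det ∈ Ideal.span (Set.range y) := by
    intro t
    induction t using Finset.induction_on with
    | empty =>
      have : Mt ∅ = M := by ext i j; simp [Mt]
      rw [this, sub_self]; exact Submodule.zero_mem _
    | insert i t hi ih =>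
      have h1 : Mt (insert i t) = (Mt t).updateRow i (M' i) := by
        ext a b
        by_cases ha : a = i
        · subst ha
          rw [updateRow_self]
          simp [Mt]
        · rw [updateRow_ne ha]
          simp [Mt, ha]
      have h2 : Mt t = (Mt t).updateRow i (M i) := by
        ext a b
        by_cases ha : a = i
        · subst ha
          rw [updateRow_self]
          simp [Mt, hi]
        · rw [updateRow_ne ha]
      have h3 : ((Mt t).updateRow i (M i - M' i)).det ∈ Ideal.span (Set.range y) := by
        refine det_updateRow_mem _ x y i (fun j _ => congrFun (hMt t) j) _ (hx _ ?_)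
        have e1 := congrFun hM i
        have e2 := congrFun hM' i
        simp only [mulVec, dotProduct] at e1 e2
        simp only [Pi.sub_apply, sub_mul, Finset.sum_sub_distrib]
        rw [e1, e2, sub_self]
      have h4 : (Mt t).det - (Mt (insert i t)).det = ((Mt t).updateRow i (M i - M' i)).det := by
        conv_lhs => rw [h1, h2, updateRow_idem]
        have : M i = (M i - M' i) + M' i := by abel
        conv_lhs => rw [this]
        rw [det_updateRow_add]
        ring
      have : M.det - (Mt (insert i t)).det = (M.det - (Mt t).det) +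
          ((Mt t).det - (Mt (insert i t)).det) := by ring
      rw [this, h4]
      exact Ideal.add_mem _ ih h3
  have h1 : Mt Finset.univ = M' := by ext i j; simp [Mt]
  have := key Finset.univ
  rwa [h1] at this

/-- Cramer: the determinant times each `f i` lies in the ideal of the `D f`. -/
theorem det_mul_mem (D : Matrix (Fin n) (Fin n) S) (f : Fin n → S) (i : Fin n) :
    D.det * f i ∈ Ideal.span (Set.range (D *ᵥ f)) := by
  have h1 : (D.adjugate *ᵥ (D *ᵥ f)) i = D.det * f i := by
    rw [mulVec_mulVec, adjugate_mul, smul_mulVec, one_mulVec]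
    rfl
  rw [← h1, mulVec, dotProduct]
  exact Ideal.sum_mem _ fun j _ => Ideal.mul_mem_left _ _ (Ideal.subset_span ⟨j, rfl⟩)

end general

section vars

open MvPolynomial

variable {A : Type*} [CommRing A] {n : ℕ}

/-- relations between variables are Koszul relations -/
theorem kos_X : Kos (fun j : Fin n => (X j : MvPolynomial (Fin n) A)) := by
  classical
  have key : ∀ (t : Finset (Fin n)) (r : Fin n → MvPolynomial (Fin n) A), (∀ j, j ∉ t → r j = 0) →
      ∑ j, r j * X j = 0 → r ∈ kosRel (fun j : Fin n => (X j : MvPolynomial (Fin n) A)) := by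
    intro t
    induction t using Finset.induction_on with
    | empty =>
      intro r hr _
      have : r = 0 := by ext1 j; exact hr j (by simp)
      rw [this]; exact Submodule.zero_mem _
    | insert i t hi ih =>
      intro r hr hsum
      have h0 : ∑ j, r j * X j = r i * X i + ∑ j ∈ t, r j * X j := by
        rw [← Finset.sum_insert (f := fun j => r j * (X j : MvPolynomial (Fin n) A)) hi]
        symm
        apply Finset.sum_subset (Finset.subset_univ _)
        intro j _ hj
        rw [hr j hj, zero_mul]
      have h1 : r i * X i ∈ Ideal.span (X '' (t : Set (Fin n)) : Set (MvPolynomial (Fin n) A)) := by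
        have h2 : r i * X i = -∑ j ∈ t, r j * X j := by
          rw [h0] at hsum
          linear_combination hsum
        rw [h2]
        refine neg_mem (Ideal.sum_mem _ fun j hj => Ideal.mul_mem_left _ _
          (Ideal.subset_span ⟨j, hj, rfl⟩))
      have h2 : r i ∈ Ideal.span (X '' (t : Set (Fin n)) : Set (MvPolynomial (Fin n) A)) := by
        rw [mem_ideal_span_X_image] at h1 ⊢
        intro m hm
        have h3 : m + Finsupp.single i 1 ∈ (r i * X i).support := by
          rw [mem_support_iff, coeff_mul_X]
          exact mem_support_iff.1 hm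
        obtain ⟨j, hj, hmj⟩ := h1 _ h3
        refine ⟨j, hj, ?_⟩
        have hij : i ≠ j := fun h => hi (h ▸ hj)
        simpa [Finsupp.single_apply, hij] using hmj
      obtain ⟨c, hc⟩ := (Submodule.mem_span_image_finset_iff_exists_fun
        (MvPolynomial (Fin n) A)).1 h2
      -- the combination of Koszul relations to be subtracted
      let ρ : Fin n → MvPolynomial (Fin n) A := ∑ j : t, c j •
        ((X (j : Fin n) : MvPolynomial (Fin n) A) • Pi.single i 1 - (X i : MvPolynomial (Fin n) A) •
          Pi.single (j : Fin n) 1)
      have hρ : ρ ∈ kosRel (fun j : Fin n => (X j : MvPolynomial (Fin n) A)) :=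
        Submodule.sum_mem _ fun j _ => Submodule.smul_mem _ _
          (gen_mem (fun j : Fin n => (X j : MvPolynomial (Fin n) A)) j i)
      have hρi : ρ i = r i := by
        rw [← hc]
        simp only [ρ, Finset.sum_apply, Pi.smul_apply, Pi.sub_apply, smul_eq_mul, Pi.single_apply]
        refine Finset.sum_congr rfl fun j _ => ?_
        have : ¬ i = (j : Fin n) := fun h => hi (h ▸ j.2)
        simp [this]
      have hρj : ∀ j, j ∉ insert i t → ρ j = 0 := by
        intro j hj
        simp only [ρ, Finset.sum_apply, Pi.smul_apply, Pi.sub_apply, smul_eq_mul, Pi.single_apply]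
        refine Finset.sum_eq_zero fun l _ => ?_
        have h3 : ¬ j = i := fun h => hj (h ▸ Finset.mem_insert_self _ _)
        have h4 : ¬ j = (l : Fin n) := fun h => hj (h ▸ Finset.mem_insert_of_mem l.2)
        simp [h3, h4]
      have hρs : ∑ j, ρ j * X j = 0 := by
        simp only [ρ, Finset.sum_apply, Pi.smul_apply, Pi.sub_apply, smul_eq_mul, Finset.sum_mul]
        rw [Finset.sum_comm]
        refine Finset.sum_eq_zero fun l _ => ?_
        simp only [Pi.single_apply, mul_sub, sub_mul, Finset.sum_sub_distrib, mul_ite, mul_one,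
          mul_zero, ite_mul, zero_mul, Finset.sum_ite_eq', Finset.mem_univ, if_true]
        ring
      have h4 : r - ρ ∈ kosRel (fun j : Fin n => (X j : MvPolynomial (Fin n) A)) := by
        apply ih
        · intro j hj
          by_cases hji : j = i
          · subst hji
            rw [Pi.sub_apply, hρi, sub_self]
          · have : j ∉ insert i t := by simp [hji, hj]
            rw [Pi.sub_apply, hr j this, hρj j this, sub_self]
        · simp only [Pi.sub_apply, sub_mul, Finset.sum_sub_distrib]
          rw [hsum, hρs, sub_self]
      have : r = (r - ρ) + ρ := by abel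
      rw [this]
      exact Submodule.add_mem _ h4 hρ
  intro r hr
  exact key Finset.univ r (fun j hj => absurd (Finset.mem_univ j) hj) hr

/-- Nonvanishing of the determinant. -/
theorem det_not_mem {K : Type*} [Field K] {n : ℕ} (f : Fin n → MvPolynomial (Fin n) K)
    (C : Matrix (Fin n) (Fin n) (MvPolynomial (Fin n) K)) (hC : C *ᵥ (fun j => X j) = f)
    (s : MvPolynomial (Fin n) K) (hs : constantCoeff s ≠ 0) (N : ℕ) (hN : 0 < N)
    (hmem : ∀ j, s * X j ^ N ∈ Ideal.span (Set.range f)) : C.det ∉ Ideal.span (Set.range f) := by
  classical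
  intro hdet
  have h1 : ∀ j, ∃ c : Fin n → MvPolynomial (Fin n) K, ∑ i, c i • f i = s * X j ^ N := fun j =>
    (Submodule.mem_span_range_iff_exists_fun (MvPolynomial (Fin n) K)).1 (hmem j)
  choose D hD using h1
  let y : Fin n → MvPolynomial (Fin n) K := fun j => s * X j ^ N
  have hDf : (Matrix.of D) *ᵥ f = y := by
    ext1 j
    exact hD j
  have h2 : (Matrix.of D * C) *ᵥ (fun j => X j) = y := by
    rw [← mulVec_mulVec, hC, hDf]
  have h3 : (Matrix.diagonal fun j : Fin n => s * X j ^ (N - 1)) *ᵥ (fun j => X j) = y := by
    ext1 j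
    rw [mulVec_diagonal]
    simp only [y]
    rw [mul_assoc, ← pow_succ, Nat.sub_add_cancel hN]
  have h4 := det_sub_mem kos_X _ _ h2 h3
  have h5 : (Matrix.of D * C).det ∈ Ideal.span (Set.range y) := by
    rw [det_mul]
    obtain ⟨c, hc⟩ := (Submodule.mem_span_range_iff_exists_fun (MvPolynomial (Fin n) K)).1 hdet
    rw [← hc, Finset.mul_sum]
    refine Ideal.sum_mem _ fun i _ => ?_
    have := det_mul_mem (Matrix.of D) f i
    rw [hDf] at this
    rw [smul_eq_mul, mul_left_comm]
    exact Ideal.mul_mem_left _ _ this
  have h6 : (Matrix.diagonal fun j : Fin n => s * X j ^ (N - 1)).det ∈ Ideal.span (Set.range y) := by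
    have := Ideal.sub_mem _ h5 h4
    rwa [sub_sub_cancel] at this
  have h7 : Ideal.span (Set.range y) ≤ Ideal.span ((fun m => monomial m (1 : K)) ''
      (Set.range fun j : Fin n => Finsupp.single j N)) := by
    rw [Ideal.span_le]
    rintro _ ⟨j, rfl⟩
    refine Ideal.mul_mem_left _ _ (Ideal.subset_span ⟨_, ⟨j, rfl⟩, ?_⟩)
    rw [X_pow_eq_monomial]
  have h8 := h7 h6
  rw [mem_ideal_span_monomial_image] at h8
  let m₀ : Fin n →₀ ℕ := Finsupp.equivFunOnFinite.symm fun _ => N - 1
  have h9 : (Matrix.diagonal fun j : Fin n => s * X j ^ (N - 1)).det = s ^ n * monomial m₀ 1 := by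
    rw [det_diagonal, Finset.prod_mul_distrib, Finset.prod_const, Finset.card_univ,
      Fintype.card_fin]
    congr 1
    rw [monomial_eq, C_1, one_mul, Finsupp.prod_fintype _ _ (fun i => by simp)]
    rfl
  have h10 : m₀ ∈ ((Matrix.diagonal fun j : Fin n => s * X j ^ (N - 1)).det).support := by
    rw [mem_support_iff, h9]
    have h11 := coeff_mul_monomial (0 : Fin n →₀ ℕ) m₀ (1 : K) (s ^ n)
    rw [zero_add, mul_one] at h11
    rw [h11, ← constantCoeff_eq, map_pow]
    exact pow_ne_zero _ hs
  obtain ⟨_, ⟨j, rfl⟩, hj⟩ := h8 _ h10
  have h12 := hj j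
  simp [m₀] at h12
  omega

end vars

end K672.Wiebe
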